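import Cfsg.Agent.Lib.SuzType57.Tables

/-!
# Finite facts about the elliptic space
-/

set_option autoImplicit false

namespace Cfsg.Agent.Lib.SuzType57

/-- The form. -/
abbrev q6 (v : W) : Bool := qf QT v

/-- The polar form. -/
abbrev b6 (a b : W) : Bool := bf QT a b

/-- Action of a word. -/
abbrev act6 (l : List W) (v : W) : W := ap QT l v

/-- An even word of reflections. -/
abbrev EvenWord (l : List W) : Prop := (∀ a ∈ l, q6 a = true) ∧ l.length % 2 = 0

/-- An element of order three on the anisotropic plane, trivial on its complement. -/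
def wordX : List W := [16, 32]

/-- An isometry exchanging the second hyperbolic pair. -/
def wordT : List W := [12, 16]

/-- Even words for all the even isometries fixing the first basis vector. -/
def stabOne : List (List W) := (enum trans 5 1).filter fun l => l.length % 2 == 0

/-- Even words sending each singular vector to the first basis vector. -/
def toOne : List (List W) := (trans 0).map fun w => if w.length % 2 == 0 then w else 16 :: w

/-- Membership of the unipotent radical at the first basis vector. -/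
abbrev InR (l : List W) : Prop := ∀ y : W, b6 1 y = false → act6 l y = y ∨ act6 l y = xr y 1

theorem toOne_spec : (∀ w ∈ toOne, EvenWord w) ∧
    ∀ v : W, v ≠ 0 → q6 v = false → ∃ w ∈ toOne, act6 w v = 1 := by decide +kernel

theorem enum_len : ∀ l ∈ stabOne, EvenWord l ∧ act6 l 1 = 1 := by decide +kernel

theorem wordA_spec : EvenWord wordA ∧ act6 wordA 1 = 1 ∧ InR wordA ∧
    (∀ v, act6 wordA (act6 wordA v) = v) := by decide +kernel

theorem wordC_spec : EvenWord wordC ∧ act6 wordC 1 = 1 ∧ InR wordC ∧
    (∀ v, act6 wordC (act6 wordC v) = v) := by decide +kernel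

theorem wordF_spec : EvenWord wordF ∧ act6 wordF 1 = 1 ∧
    (∀ v, act6 wordA (act6 wordF v) = act6 wordC v) ∧
    ∃ g ∈ rsCert, EvenWord g ∧ act6 g 1 = 1 ∧
      ∀ i < 6, act6 g (act6 wordF (bv i)) = act6 wordA (act6 g (bv i)) := by decide +kernel

theorem wordX_spec : EvenWord wordX ∧ act6 wordX 1 = 1 ∧
    (∀ v, act6 wordX (act6 wordA v) = act6 wordA (act6 wordX v)) ∧
    ∀ v, act6 wordX (act6 wordC v) = act6 wordC (act6 wordX v) := by decide +kernel

theorem wordT_spec : EvenWord wordT ∧ act6 wordT 1 = 1 ∧ act6 wordT 4 = 8 ∧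
    ∀ v, act6 wordT (act6 wordC v) = act6 wordC (act6 wordT v) := by decide +kernel

/-- Classes of involutions fixing the first basis vector. -/
theorem inv_classes : ∀ l ∈ stabOne, (∀ i < 6, act6 l (act6 l (bv i)) = bv i) →
    ¬ (∀ i < 6, act6 l (bv i) = bv i) → ∃ g ∈ invCert, EvenWord g ∧
      ((∀ i < 6, act6 g (act6 l (bv i)) = act6 wordA (act6 g (bv i))) ∨
        ∀ i < 6, act6 g (act6 l (bv i)) = act6 wordC (act6 g (bv i))) := by decide +kernel

/-- Classes in the unipotent radical. -/
theorem rad_classes : ∀ l ∈ stabOne, InR l →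
    ¬ (∀ i < 6, act6 l (bv i) = bv i) → ∃ g ∈ rsCert, EvenWord g ∧ act6 g 1 = 1 ∧
      ((∀ i < 6, act6 g (act6 l (bv i)) = act6 wordA (act6 g (bv i))) ∨
        ∀ i < 6, act6 g (act6 l (bv i)) = act6 wordC (act6 g (bv i))) := by decide +kernel

theorem rad_comm : ∀ l ∈ stabOne.filter (fun l => decide (InR l)),
    ∀ m ∈ stabOne.filter (fun l => decide (InR l)),
      ∀ i < 6, act6 l (act6 m (bv i)) = act6 m (act6 l (bv i)) := by decide +kernel

/-- The fixed space of an element of order two as sum of its commutator space and the plane. -/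
theorem fix_A : ∀ v : W, act6 wordA v = v →
    ∃ u ∈ ([0, 16, 32, 48] : List W), ∃ p : W, v = xr u (xr (act6 wordA p) p) := by decide +kernel

theorem fix_C : ∀ v : W, act6 wordC v = v →
    ∃ u ∈ ([0, 16, 32, 48] : List W), ∃ p : W, v = xr u (xr (act6 wordC p) p) := by decide +kernel

/-- The only non-zero singular commutator of `wordC`. -/
theorem comm_C : (∀ p : W, xr (act6 wordC p) p ≠ 0 → q6 (xr (act6 wordC p) p) = false →
    xr (act6 wordC p) p = 1) ∧ ∃ p : W, xr (act6 wordC p) p = 1 := by decide +kernel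

/-- The centralizer step. -/
theorem cent_C : ∀ l ∈ stabOne, (∀ i < 6, act6 l (act6 wordC (bv i)) = act6 wordC (act6 l (bv i))) →
    ∀ e ∈ ([0, 12] : List W), ∀ f ∈ ([0, 12] : List W),
      (let K : List W := [0, 1, xr 16 e, xr 1 (xr 16 e), xr 32 f, xr 1 (xr 32 f),
          xr (xr 16 e) (xr 32 f), xr 1 (xr (xr 16 e) (xr 32 f))]
       ∀ k ∈ K, act6 l k ∈ K ∧ q6 (xr (act6 l k) k) = false) → InR l := by decide +kernel

/-- No singular plane at the first vector is invariant. -/
theorem singular_moved : ∀ v : W, b6 1 v = false → q6 v = false → v ≠ 0 → v ≠ 1 →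
    ∃ g ∈ stabOne, b6 v (act6 g v) = true := by decide +kernel

end Cfsg.Agent.Lib.SuzType57
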