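import Cfsg.Prelude.Def_Local
import Cfsg.Prelude.Def_Classical
import Cfsg.Agent.Lib.SuzType57.Facts
import Cfsg.Agent.Lib.ExtraTwo.Coord
import Cfsg.Agent.Lib.LargeExtra.Setting
import Cfsg.Agent.Lib.Components.GenFitting
import Cfsg.Agent.Lib.Forms.Parity
import Cfsg.Agent.Lib.Classical.EichlerStandard
import Cfsg.Agent.Lib.FischerType.OmegaSix

/-!
# Coordinates on the extraspecial subgroup of an involution centralizer of Suzuki type
-/

set_option autoImplicit false
set_option linter.style.haveILetI false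

namespace Cfsg.Agent.Lib.SuzType57

open Cfsg.Agent.Lib.LargeExtra
open scoped commutatorElement

theorem nondeg_six :
    (QuadraticMap.polarBilin (Classical.minusForm 2 (ZMod 2) 1 1)).Nondegenerate := by
  have key : ∀ v : (Fin 2 ⊕ Fin 2) ⊕ Fin 2 → ZMod 2,
      (∀ w, Cfsg.quadFormMinus 2 (ZMod 2) 1 1 (v + w) = Cfsg.quadFormMinus 2 (ZMod 2) 1 1 v +
        Cfsg.quadFormMinus 2 (ZMod 2) 1 1 w) → v = 0 := by decide +kernel
  have hl : ∀ v, (∀ w, QuadraticMap.polarBilin (Classical.minusForm 2 (ZMod 2) 1 1) v w = 0) →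
      v = 0 := fun v hv => key v fun w => by
    have h := hv w
    rw [QuadraticMap.polarBilin_apply_apply, QuadraticMap.polar, Classical.coe_minusForm,
      sub_sub, sub_eq_zero] at h
    exact h
  refine ⟨hl, fun v hv => hl v fun w => ?_⟩
  rw [QuadraticMap.polarBilin_apply_apply, QuadraticMap.polar_comm]
  simpa using hv w

theorem card_omega :
    Nat.card (Cfsg.Omega (ZMod 2) (Cfsg.quadFormMinus 2 (ZMod 2) 1 1)) = 25920 := by
  have hidx : (Cfsg.Omega (ZMod 2) (Cfsg.quadFormMinus 2 (ZMod 2) 1 1)).index = 2 := by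
    have := Forms.index_Omega_char_two nondeg_six (Or.inr (by simp)) (by simp)
    rwa [Classical.coe_minusForm] at this
  have h := Subgroup.card_mul_index (Cfsg.Omega (ZMod 2) (Cfsg.quadFormMinus 2 (ZMod 2) 1 1))
  rw [hidx, FischerType.card_Qm] at h
  omega

theorem isExtraspecial_of_equiv {E E' : Type*} [Group E] [Group E'] (e : E ≃* E') {p : ℕ}
    (h : Cfsg.IsExtraspecial p E) : Cfsg.IsExtraspecial p E' := by
  obtain ⟨⟨hp, hfr, hcm⟩, hcard⟩ := h
  have hc : (Subgroup.center E).map e.toMonoidHom = Subgroup.center E' := by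
    ext y
    obtain ⟨x, rfl⟩ := e.surjective y
    simp only [Subgroup.mem_map, MulEquiv.coe_toMonoidHom, Subgroup.mem_center_iff]
    constructor
    · rintro ⟨a, ha, hax⟩ w
      obtain ⟨v, rfl⟩ := e.surjective w
      rw [← hax, ← map_mul, ← map_mul, ha v]
    · exact fun hy => ⟨x, fun v => e.injective (by rw [map_mul, map_mul, hy (e v)]), rfl⟩
  have hf : (frattini E).map e.toMonoidHom = frattini E' := by
    refine le_antisymm (Subgroup.map_le_iff_le_comap.2
      (frattini_le_comap_frattini_of_surjective (φ := e.toMonoidHom) e.surjective)) fun y hy => ?_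
    exact ⟨e.symm y, frattini_le_comap_frattini_of_surjective (φ := e.symm.toMonoidHom)
      e.symm.surjective hy, e.apply_symm_apply y⟩
  refine ⟨⟨hp.of_equiv e, by rw [← hf, ← hc, hfr], ?_⟩, ?_⟩
  · rw [← hc, ← hcm, commutator_def, commutator_def, Subgroup.map_commutator,
      Subgroup.map_top_of_surjective e.toMonoidHom e.surjective]
  · rw [← hc, Subgroup.card_map_of_injective e.injective, hcard]

theorem linkT : ∀ a b : W, q6 a = true → q6 b = true →
    ∃ d : W, q6 d = true ∧ b6 a d = true ∧ b6 d b = true := by decide +kernel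

theorem cubeT : ∀ a b : W, q6 a = true → q6 b = true → b6 a b = true →
    ∀ i < 6, act6 [a, b, a, b, a, b] (bv i) = bv i := by decide +kernel

/-- The elliptic space, an extraspecial group and its conjugation action, by coordinates. -/
structure SData (G : Type*) [Group G] where
  /-- The involution. -/
  z : G
  /-- The cores of the centralizers. -/
  core : G → Subgroup G
  isCore : IsCoreMap core
  good : Good (core z) z
  /-- Coordinates. -/
  vec : G → W
  vec_mul : ∀ {a b}, a ∈ core z → b ∈ core z → vec (a * b) = xr (vec a) (vec b)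
  vec_eq_zero : ∀ {a}, a ∈ core z → (vec a = 0 ↔ a = 1 ∨ a = z)
  vec_surj : ∀ v, ∃ a ∈ core z, vec a = v
  vec_sq : ∀ {a}, a ∈ core z → (q6 (vec a) = false ↔ a * a = 1)
  word : ∀ {c}, Commute c z → ∃ l, EvenWord l ∧ ∀ a ∈ core z, vec (c * a * c⁻¹) = act6 l (vec a)
  word_one : ∀ {c l}, Commute c z → (∀ a ∈ core z, vec (c * a * c⁻¹) = act6 l (vec a)) →
    act6 l 1 = 1 → ∃ m ∈ stabOne, ∀ a ∈ core z, vec (c * a * c⁻¹) = act6 m (vec a)
  lift : ∀ {l}, EvenWord l →
    ∃ c, Commute c z ∧ ∀ a ∈ core z, vec (c * a * c⁻¹) = act6 l (vec a)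
  sylow : ∀ {t : G}, t * t = 1 → ∃ g, Commute (g * t * g⁻¹) z
  exists_fused : ∃ g, g * z * g⁻¹ ∈ core z ∧ g * z * g⁻¹ ≠ z

/-- The pairing of the coordinates. -/
def pair6 : Fin 6 → Fin 6 := ![1, 0, 3, 2, 5, 4]

/-- The mask of a coordinate vector. -/
def enc (u : Fin 6 → ZMod 2) : W :=
  Fin.ofNat 64 ((u 0).val + 2 * (u 1).val + 4 * (u 2).val + 8 * (u 3).val + 16 * (u 4).val +
    32 * (u 5).val)

/-- The coordinate vector of a mask. -/
def decW (v : W) : Fin 6 → ZMod 2 := fun i => if v.1.testBit i.1 then 1 else 0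

/-- The form on coordinate vectors. -/
def qz (t : ℕ) (u : Fin 6 → ZMod 2) : ZMod 2 := if qf t (enc u) then 1 else 0

theorem enc_spec : (∀ u v : Fin 6 → ZMod 2, enc (u + v) = xr (enc u) (enc v)) ∧
    (∀ v : W, enc (decW v) = v) ∧ ∀ u, decW (enc u) = u := by decide +kernel

theorem qz_T : (∀ u v, qz QT (u + v) = qz QT u + qz QT v + ∑ i, u i * v (pair6 i)) ∧
    ∀ i, qz QT (Pi.single i 1) = ![0, 0, 0, 0, 1, 1] i := by decide +kernel

theorem qz_P : (∀ u v, qz QP (u + v) = qz QP u + qz QP v + ∑ i, u i * v (pair6 i)) ∧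
    ∀ i, qz QP (Pi.single i 1) = ![0, 0, 0, 0, 0, 0] i := by decide +kernel

theorem pair6_inv : Function.Involutive pair6 := by unfold Function.Involutive; decide +kernel

theorem exists_coord6 {E : Type*} [Group E] [Finite E] (h : Cfsg.IsExtraspecial 2 E)
    (hcard : Nat.card E = 2 ^ 7) : ∃ t ∈ ([QT, QP] : List ℕ),
    ∃ π : E →* Multiplicative (Fin 6 → ZMod 2), Function.Surjective π ∧ π.ker = Subgroup.center E ∧
      ∀ g, (g ^ 2 = 1 ↔ qz t (Multiplicative.toAdd (π g)) = 0) := by
  haveI : Fact (Nat.Prime 2) := ⟨Nat.prime_two⟩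
  have hX := ExtraStruct.extraLike_of_isExtraspecial h
  obtain ⟨e, x, y, p, q, hx, hy, hp, hq, hpq, hxy, hxx, hyy, hxp, hxq, hyp, hyq⟩ :=
    ExtraTwoCoord.exists_family hX 2 (by rw [hcard])
  let w : Fin 6 → E := ![x 0, y 0, x 1, y 1, p, q]
  have hw : ∀ i j, ExtraTwoCoord.bit ⁅w i, w j⁆ = if j = pair6 i then 1 else 0 := by
    have hs := ExtraTwoCoord.bit_comm_symm hX
    intro i j
    fin_cases i <;> fin_cases j <;>
      simp [w, pair6, hxx, hyy, hxy, hxp, hxq, hyp, hyq, hpq, ExtraTwoCoord.bit_one,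
        hs (y _) (x _), hs p (x _), hs q (x _), hs p (y _), hs q (y _), hs q p]
  have hc : Nat.card E = 2 * 2 ^ Fintype.card (Fin 6) := by rw [hcard, Fintype.card_fin]; rfl
  rcases ExtraTwoCoord.zmod_two_cases e with he | he <;> rw [he] at hp hq
  · refine ⟨QP, by simp, ExtraTwoCoord.exists_coord hX hc pair6 pair6_inv _ qz_P.1 w hw fun i => ?_⟩
    rw [qz_P.2]
    fin_cases i <;> simp [w, hx, hy, hp, hq]
  · refine ⟨QT, by simp, ExtraTwoCoord.exists_coord hX hc pair6 pair6_inv _ qz_T.1 w hw fun i => ?_⟩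
    rw [qz_T.2]
    fin_cases i <;> simp [w, hx, hy, hp, hq]

variable {G : Type*} [Group G] [Finite G]

/-- The data from the usual hypotheses. -/
theorem exists_data (z : G) (hz : orderOf z = 2)
    (Q : Subgroup (Subgroup.centralizer ({z} : Set G))) [Q.Normal]
    (hF : Cfsg.generalizedFittingSubgroup (Subgroup.centralizer ({z} : Set G)) = Q)
    (hQ : Cfsg.IsExtraspecial 2 Q) (hcard : Nat.card Q = 2 ^ 7)
    (e : (Subgroup.centralizer ({z} : Set G)) ⧸ Q ≃*
      Cfsg.Omega (ZMod 2) (Cfsg.quadFormMinus 2 (ZMod 2) 1 1))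
    (hnwc : ∃ g : G, (∃ hq : g * z * g⁻¹ ∈ Subgroup.centralizer ({z} : Set G),
      (⟨g * z * g⁻¹, hq⟩ : Subgroup.centralizer ({z} : Set G)) ∈ Q) ∧ g * z * g⁻¹ ≠ z) :
    ∃ D : SData G, D.z = z := by
  classical
  haveI : Fact (Nat.Prime 2) := ⟨Nat.prime_two⟩
  let C := Subgroup.centralizer ({z} : Set G)
  have hmC : ∀ {x : G}, x ∈ C ↔ Commute x z := Subgroup.mem_centralizer_singleton_iff
  have hzz : z * z = 1 := by rw [← sq, ← hz, pow_orderOf_eq_one]
  have hz1 : z ≠ 1 := fun h => by rw [h, orderOf_one] at hz; omega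
  have hself : Subgroup.centralizer (Q : Set ↥C) ≤ Q := by
    have := Components.centralizer_generalizedFittingSubgroup_le (G := ↥C)
    rwa [hF] at this
  -- the core
  have hpc : Cfsg.pCore 2 ↥C = Q := by
    refine le_antisymm ?_ (PSolvable.le_pCore (Extraspecial.isPGroup hQ))
    rw [← hF]
    exact (Components.pCore_le_fittingSubgroup 2).trans le_sup_right
  let core : G → Subgroup G := fun x => (Cfsg.pCore 2 ↥(Subgroup.centralizer ({x} : Set G))).map
    (Subgroup.centralizer ({x} : Set G)).subtype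
  have hcore : IsCoreMap core := fun x => rfl
  have hX : core z = Q.map C.subtype := by rw [← hpc]
  have hcom : ∀ {a}, a ∈ core z → Commute a z := fun ha => hcore.le_centralizer ha
  have hXc : Subgroup.centralizer ((core z : Subgroup G) : Set G) ≤ core z := by
    intro g hg
    have hgz : g ∈ C := hmC.2 (by
      have hzQ : (⟨z, hmC.2 (Commute.refl z)⟩ : ↥C) ∈ Q := hself (Subgroup.mem_centralizer_iff.2
        fun x _ => Subtype.ext (hmC.1 x.2).eq)
      exact ((Subgroup.mem_centralizer_iff.1 hg) z (hX ▸ ⟨_, hzQ, rfl⟩)).symm)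
    rw [hX]
    refine ⟨⟨g, hgz⟩, hself (Subgroup.mem_centralizer_iff.2 fun x hx => Subtype.ext ?_), rfl⟩
    exact Subgroup.mem_centralizer_iff.1 hg x (hX ▸ ⟨x, hx, rfl⟩)
  let eX : Q ≃* ↥(core z) :=
    (Subgroup.equivMapOfInjective Q C.subtype C.subtype_injective).trans
      (MulEquiv.subgroupCongr hX.symm)
  have eX_coe : ∀ a : Q, (eX a : G) = ((a : ↥C) : G) := fun a => rfl
  have hEX : Cfsg.IsExtraspecial 2 ↥(core z) :=
    isExtraspecial_of_equiv eX hQ
  have hgood : Good (core z) z := by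
    simpa using hcore.good_conj hz hEX hXc 1
  have hcX : Nat.card ↥(core z) = 2 ^ 7 := by rw [← Nat.card_congr eX.toEquiv, hcard]
  obtain ⟨t, ht, π, hπs, hπk, hπq⟩ := exists_coord6 hEX hcX
  let vec : G → W := fun a =>
    if h : a ∈ core z then enc (Multiplicative.toAdd (π ⟨a, h⟩)) else 0
  have hvec : ∀ (a : G) (h : a ∈ core z), vec a = enc (Multiplicative.toAdd (π ⟨a, h⟩)) :=
    fun a h => dif_pos h
  have vmul : ∀ {a b}, a ∈ core z → b ∈ core z → vec (a * b) = xr (vec a) (vec b) := by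
    intro a b ha hb
    rw [hvec a ha, hvec b hb, hvec _ (mul_mem ha hb), ← enc_spec.1, ← toAdd_mul, ← map_mul]
    rfl
  have hcen : ∀ {a : G} (h : a ∈ core z), (⟨a, h⟩ : ↥(core z)) ∈ Subgroup.center ↥(core z) ↔
      a = 1 ∨ a = z := by
    intro a h
    refine ⟨fun hc => hgood.centre a h fun b hb => ?_, fun hc => ?_⟩
    · exact congrArg Subtype.val (Subgroup.mem_center_iff.1 hc ⟨b, hb⟩).symm
    · refine Subgroup.mem_center_iff.2 fun b => Subtype.ext ?_
      rcases hc with rfl | rfl
      · show (b : G) * 1 = 1 * b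
        rw [mul_one, one_mul]
      · exact hgood.le_cent b b.2
  have vzero : ∀ {a}, a ∈ core z → (vec a = 0 ↔ a = 1 ∨ a = z) := by
    intro a ha
    rw [hvec a ha, ← hcen ha, ← hπk, MonoidHom.mem_ker]
    constructor
    · intro h
      refine Multiplicative.toAdd.injective ?_
      rw [← enc_spec.2.2 (Multiplicative.toAdd (π ⟨a, ha⟩)), h, toAdd_one]
      decide +kernel
    · intro h; rw [h]; rfl
  have vsurj : ∀ v, ∃ a ∈ core z, vec a = v := by
    intro v
    obtain ⟨a, ha⟩ := hπs (Multiplicative.ofAdd (decW v))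
    exact ⟨a, a.2, by rw [hvec _ a.2, Subtype.coe_eta, ha, toAdd_ofAdd, enc_spec.2.1]⟩
  have vsq : ∀ {a}, a ∈ core z → (qf t (vec a) = false ↔ a * a = 1) := by
    intro a ha
    have h := hπq ⟨a, ha⟩
    rw [sq, Subtype.ext_iff] at h
    rw [hvec a ha, show a * a = 1 ↔ _ from h, qz]
    cases qf t (enc (Multiplicative.toAdd (π ⟨a, ha⟩))) <;> simp
  have veq : ∀ {a b}, a ∈ core z → b ∈ core z → vec a = vec b → b = a ∨ b = a * z := by
    intro a b ha hb h
    have h0 : vec (a⁻¹ * b) = 0 := by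
      have := vmul (inv_mem ha) ha
      rw [inv_mul_cancel, (vzero (one_mem _)).2 (Or.inl rfl)] at this
      rw [vmul (inv_mem ha) hb, ← h, ← this]
    rcases (vzero (mul_mem (inv_mem ha) hb)).1 h0 with r | r
    · exact Or.inl (inv_mul_eq_one.1 r).symm
    · exact Or.inr (inv_mul_eq_iff_eq_mul.1 r)
  choose sec hsecm hsecv using vsurj
  have hnorm : ∀ (c : ↥C) {a}, a ∈ core z → (c : G) * a * (c : G)⁻¹ ∈ core z :=
    fun c _ ha => hgood.norm c (hmC.1 c.2) _ ha
  have hvconj : ∀ (c : ↥C) {a}, a ∈ core z →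
      vec ((c : G) * a * (c : G)⁻¹) = vec ((c : G) * sec (vec a) * (c : G)⁻¹) := by
    intro c a ha
    rcases veq (hsecm (vec a)) ha (hsecv (vec a)) with r | r
    · conv_lhs => rw [r]
    · conv_lhs => rw [r, show (c : G) * (sec (vec a) * z) * (c : G)⁻¹ =
        (c : G) * sec (vec a) * (c : G)⁻¹ * ((c : G) * z * (c : G)⁻¹) by group,
        show (c : G) * z * (c : G)⁻¹ = z by rw [(hmC.1 c.2).eq]; group,
        vmul (hnorm c (hsecm _)) hgood.x_mem, (vzero hgood.x_mem).2 (Or.inr rfl), xr_zero]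
  let actF : ↥C → W → W := fun c v => vec ((c : G) * sec v * (c : G)⁻¹)
  have actF_mul : ∀ c d v, actF (c * d) v = actF c (actF d v) := by
    intro c d v
    show vec _ = vec ((c : G) * sec (vec ((d : G) * sec v * (d : G)⁻¹)) * (c : G)⁻¹)
    rw [← hvconj c (hnorm d (hsecm v)), Subgroup.coe_mul]
    congr 1
    group
  have actF_one : ∀ v, actF 1 v = v := fun v => by
    show vec _ = v
    rw [OneMemClass.coe_one, one_mul, inv_one, mul_one, hsecv]
  let Φ : ↥C →* Equiv.Perm W :=
    { toFun := fun c => ⟨actF c, actF c⁻¹,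
        fun v => by rw [← actF_mul, inv_mul_cancel, actF_one],
        fun v => by rw [← actF_mul, mul_inv_cancel, actF_one]⟩
      map_one' := Equiv.ext actF_one
      map_mul' := fun c d => Equiv.ext (actF_mul c d) }
  have hΦ : ∀ (c : ↥C) {a}, a ∈ core z → vec ((c : G) * a * (c : G)⁻¹) = Φ c (vec a) :=
    fun c _ ha => hvconj c ha
  have hΦiso : ∀ c, Φ c ∈ Iso t := by
    intro c
    refine ⟨fun v w => ?_, fun v => ?_⟩
    · rw [← hsecv v, ← hsecv w, ← vmul (hsecm v) (hsecm w), ← hΦ c (mul_mem (hsecm v) (hsecm w)),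
        ← hΦ c (hsecm v), ← hΦ c (hsecm w), ← vmul (hnorm c (hsecm v)) (hnorm c (hsecm w))]
      congr 1
      group
    · rw [← hsecv v, ← hΦ c (hsecm v), Bool.eq_iff_iff, ← Bool.not_eq_false, ← Bool.not_eq_false,
        not_iff_not, vsq (hnorm c (hsecm v)), vsq (hsecm v), conj_mul, conj_eq_one_iff]
  have hker : Φ.ker = Q := by
    ext c
    rw [MonoidHom.mem_ker]
    constructor
    · intro h
      have hin : (c : G) ∈ core z := mem_of_inner hgood c fun a ha => by
        refine veq ha (hnorm c ha) ?_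
        rw [hΦ c ha, h]; rfl
      rw [hX] at hin
      obtain ⟨d, hd, hdc⟩ := hin
      exact Subtype.ext hdc ▸ hd
    · intro h
      have hc : (c : G) ∈ core z := hX ▸ ⟨c, h, rfl⟩
      refine Equiv.ext fun v => ?_
      rw [← hsecv v, ← hΦ c (hsecm v)]
      rcases hgood.comm c hc _ (hsecm v) with r | r <;> rw [r]
      · rfl
      · rw [vmul (hsecm v) hgood.x_mem, (vzero hgood.x_mem).2 (Or.inr rfl), xr_zero]
        rfl
  let L : Subgroup ↥(Iso t) := (Φ.codRestrict (Iso t) hΦiso).range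
  have hL : Nat.card L = 25920 := by
    have hk : (Φ.codRestrict (Iso t) hΦiso).ker = Q := by
      rw [← hker]; exact MonoidHom.ker_codRestrict _ _ _
    rw [← Subgroup.index_ker, hk, Subgroup.index_eq_card, Nat.card_congr e.toEquiv, card_omega]
  have hdvd : 25920 ∣ Nat.card ↥(Iso t) := hL ▸ Subgroup.card_subgroup_dvd_card L
  -- the form is elliptic
  rcases List.mem_pair.1 ht with rfl | rfl
  swap
  · exfalso
    have hle : Nat.card ↥(Iso QP) ≤ 40320 := by
      have h0 : Nat.card (Fix QP 0) = Nat.card (Iso QP) := Nat.card_congr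
        (Equiv.subtypeEquivRight fun h => ⟨fun hh => hh.1, fun hh => ⟨hh, fun j hj => by omega⟩⟩)
      have h6 : Nat.card (Fix QP 6) = 1 := by
        have : Subsingleton (Fix QP 6) :=
          ⟨fun a b => Subtype.ext ((fix_six a.2).trans (fix_six b.2).symm)⟩
        exact Nat.card_unique
      have hc : ((List.range 6).map fun i => (cand QP i).length) = [35, 16, 9, 4, 2, 1] := by
        decide +kernel
      simp only [List.range_succ, List.range_zero, List.nil_append, List.map_cons,
        List.map_nil, List.cons_append, List.cons.injEq, and_true] at hc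
      obtain ⟨c0, c1, c2, c3, c4, c5⟩ := hc
      have k0 := card_fix_le (t := QP) base (i := 0) (by omega)
      have k1 := card_fix_le (t := QP) base (i := 1) (by omega)
      have k2 := card_fix_le (t := QP) base (i := 2) (by omega)
      have k3 := card_fix_le (t := QP) base (i := 3) (by omega)
      have k4 := card_fix_le (t := QP) base (i := 4) (by omega)
      have k5 := card_fix_le (t := QP) base (i := 5) (by omega)
      rw [c0] at k0; rw [c1] at k1; rw [c2] at k2; rw [c3] at k3; rw [c4] at k4; rw [c5] at k5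
      simp only [Nat.zero_add, Nat.reduceAdd] at k0 k1 k2 k3 k4 k5
      rw [h6] at k5
      omega
    have h35 : 35 ∣ Nat.card ↥(Iso QP) := by
      have h1 := Nat.card_congr (MulAction.orbitProdStabilizerEquivGroup (Iso QP) (bv 0))
      rw [Nat.card_prod] at h1
      have horb : MulAction.orbit (Iso QP) (bv 0) = {v | v ∈ cand QP 0} := by
        ext v
        constructor
        · rintro ⟨⟨h, hh⟩, rfl⟩
          exact image_mem_cand base (by omega) ⟨hh, fun j hj => by omega⟩
        · intro hv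
          obtain ⟨w, hw, hwv⟩ := transP_spec.2.1 v hv
          refine ⟨⟨_, inv_mem (perm_mem frameP (transP_spec.1 w hw))⟩, ?_⟩
          show (perm frameP w)⁻¹ (bv 0) = v
          rw [Equiv.Perm.inv_eq_iff_eq, perm_apply, hwv]
      have hnd : (cand QP 0).Nodup := (List.nodup_finRange 64).filter _
      have hc : Nat.card {v | v ∈ cand QP 0} = 35 := by
        rw [← transP_spec.2.2, ← List.toFinset_card_of_nodup hnd, ← Set.ncard_coe_finset,
          Nat.card_coe_set_eq]
        exact congrArg Set.ncard (by ext; simp)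
      rw [horb, hc] at h1
      exact h1 ▸ Dvd.intro _ rfl
    have hpos : 0 < Nat.card ↥(Iso QP) := Nat.card_pos
    omega
  -- even words
  have hidx : L.index = 2 := by
    have h := L.card_mul_index
    rw [hL, card_isoT] at h
    omega
  have hLn : L.Normal := Subgroup.normal_of_index_eq_two hidx
  let R : (l : List W) → (∀ a ∈ l, q6 a = true) → ↥(Iso QT) :=
    fun l hl => ⟨perm frameT l, perm_mem frameT hl⟩
  have hone : ∀ a, q6 a = true → ∀ x ∈ [a], q6 x = true := fun a ha x hx => by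
    rw [List.mem_singleton] at hx; subst hx; exact ha
  have hgen : ∀ h ∈ Iso QT, ∃ l, (∀ a ∈ l, q6 a = true) ∧ perm frameT l = h := by
    intro h hh
    obtain ⟨l, hl, e⟩ := exists_enum frameT transT 6 0 rfl (h := h) ⟨hh, fun j hj => by omega⟩
    exact ⟨l, good_enum transT 6 0 rfl l hl, e⟩
  have hlink : ∀ a (ha : q6 a = true) b (hb : q6 b = true), b6 a b = true →
      (R [a] (hone a ha) ∈ L ↔ R [b] (hone b hb) ∈ L) := by
    intro a ha b hb hab
    have hg : ∀ x ∈ [a, b, a, b, a, b], q6 x = true := by simp [ha, hb]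
    have hsix : R _ hg = 1 := Subtype.ext (Iso.ext (perm_mem frameT hg) (one_mem _) fun i hi => by
      rw [perm_apply]; exact cubeT a b ha hb hab i hi)
    have hsplit : R _ hg = (R [a] (hone a ha) * R [b] (hone b hb)) *
        ((R [a] (hone a ha) * R [b] (hone b hb)) * (R [a] (hone a ha) * R [b] (hone b hb))) :=
      Subtype.ext (by simp [R, perm, mul_assoc])
    set k := R [a] (hone a ha) * R [b] (hone b hb) with hk
    have hk3 : k * (k * k) = 1 := hsplit ▸ hsix
    have hkk : k * k ∈ L := Subgroup.mul_self_mem_of_index_two hidx k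
    have hkL : k ∈ L := by
      have := (Subgroup.mul_mem_cancel_right L hkk).1 (show k * (k * k) ∈ L from hk3 ▸ one_mem L)
      exact this
    exact (Subgroup.mul_mem_iff_of_index_two hidx).1 hkL
  have hnot : ∀ a (ha : q6 a = true), R [a] (hone a ha) ∉ L := by
    intro a ha hin
    have hall : ∀ l (hl : ∀ x ∈ l, q6 x = true), R l hl ∈ L := by
      intro l
      induction l with
      | nil => intro hl; exact (show R [] hl = 1 from rfl) ▸ one_mem L
      | cons b l ih =>
        intro hl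
        have hb : q6 b = true := hl b (List.mem_cons_self ..)
        obtain ⟨d, hd, had, hdb⟩ := linkT a b ha hb
        have hbL : R [b] (hone b hb) ∈ L := (hlink d hd b hb hdb).1 ((hlink a ha d hd had).1 hin)
        have := mul_mem hbL (ih fun x hx => hl x (List.mem_cons_of_mem _ hx))
        convert this using 1
        exact Subtype.ext (by simp [R, perm])
    have htop : L = ⊤ := Subgroup.eq_top_iff' _ |>.2 fun ⟨h, hh⟩ => by
      obtain ⟨l, hl, e⟩ := hgen h hh
      exact (show R l hl = ⟨h, hh⟩ from Subtype.ext e) ▸ hall l hl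
    rw [htop, Subgroup.index_top] at hidx
    omega
  have hpar : ∀ l (hl : ∀ x ∈ l, q6 x = true), R l hl ∈ L ↔ l.length % 2 = 0 := by
    intro l
    induction l with
    | nil => intro hl; exact iff_of_true ((show R [] hl = 1 from rfl) ▸ one_mem L) rfl
    | cons b l ih =>
      intro hl
      have hb : q6 b = true := hl b (List.mem_cons_self ..)
      have hl' : ∀ x ∈ l, q6 x = true := fun x hx => hl x (List.mem_cons_of_mem _ hx)
      rw [show R (b :: l) hl = R [b] (hone b hb) * R l hl' from Subtype.ext (by simp [R, perm]),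
        Subgroup.mul_mem_iff_of_index_two hidx, ih hl', List.length_cons]
      exact ⟨fun h => by have := mt h.2 (hnot b hb); omega,
        fun h => iff_of_false (hnot b hb) (by omega)⟩
  have hpr : ∀ (c : ↥C) l (hl : ∀ x ∈ l, q6 x = true), perm frameT l = Φ c → l.length % 2 = 0 :=
    fun c l hl h => (hpar l hl).1 ⟨c, Subtype.ext h.symm⟩
  have hzX : z ∈ core z := hgood.x_mem
  obtain ⟨g, ⟨hgC, hgQ⟩, hne⟩ := hnwc
  refine ⟨{
    z := z, core := core, isCore := hcore, good := hgood, vec := vec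
    vec_mul := vmul, vec_eq_zero := vzero
    vec_surj := fun v => ⟨sec v, hsecm v, hsecv v⟩
    vec_sq := vsq
    word := fun {c} hc => by
      obtain ⟨l, hl, he⟩ := hgen _ (hΦiso ⟨c, hmC.2 hc⟩)
      refine ⟨l, ⟨hl, hpr _ l hl he⟩, fun a ha => ?_⟩
      show _ = ap QT l (vec a)
      rw [← perm_apply frameT, he]
      exact hΦ ⟨c, hmC.2 hc⟩ ha
    word_one := fun {c l} hc hcl h1 => by
      have hfix : Φ ⟨c, hmC.2 hc⟩ ∈ Fix QT 1 := by
        refine ⟨hΦiso _, fun j hj => ?_⟩
        obtain rfl : j = 0 := by omega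
        rw [← hsecv (bv 0), ← hΦ _ (hsecm _), hcl _ (hsecm _), hsecv]
        exact h1
      obtain ⟨m, hm, hme⟩ := exists_enum frameT transT 5 1 rfl hfix
      have hgm := good_enum transT 5 1 rfl m hm
      refine ⟨m, List.mem_filter.2 ⟨hm, by simp [hpr _ m hgm hme]⟩, fun a ha => ?_⟩
      show _ = ap QT m (vec a)
      rw [← perm_apply frameT, hme]
      exact hΦ ⟨c, hmC.2 hc⟩ ha
    lift := fun {l} hl => by
      obtain ⟨c, hc⟩ := (hpar l hl.1).2 hl.2
      refine ⟨c, hmC.1 c.2, fun a ha => ?_⟩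
      show _ = ap QT l (vec a)
      rw [hΦ c ha, ← perm_apply frameT, show Φ c = perm frameT l from congrArg Subtype.val hc]
    sylow := ?_
    exists_fused := ⟨g, hX ▸ ⟨_, hgQ, rfl⟩, hne⟩ }, rfl⟩
  intro u hu
  rcases eq_or_ne u 1 with rfl | hu1
  · exact ⟨1, by simp⟩
  obtain ⟨P, hP⟩ := (hcore.isPGroup z).exists_le_sylow
  obtain ⟨P', hP'⟩ := (IsPGroup.of_card (p := 2) (n := 1) (G := ↥(Subgroup.zpowers u)) (by
    rw [Nat.card_zpowers, pow_one]
    exact orderOf_eq_prime (by rw [sq]; exact hu) hu1)).exists_le_sylow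
  have hPne : Nontrivial ↥(P : Subgroup G) := ⟨⟨z, hP hzX⟩, 1, fun h => hz1 (congrArg Subtype.val h)⟩
  haveI := P.2.center_nontrivial
  obtain ⟨⟨⟨w, hwP⟩, hw⟩, hw1⟩ := exists_ne (1 : Subgroup.center ↥(P : Subgroup G))
  have hcw : ∀ a ∈ (P : Subgroup G), a * w = w * a := fun a ha =>
    congrArg Subtype.val (Subgroup.mem_center_iff.1 hw ⟨a, ha⟩)
  have hwX : w ∈ core z := hgood.cent w fun a ha => (hcw a (hP ha)).symm
  have hwz : w = z := (hgood.centre w hwX fun a ha => (hcw a (hP ha)).symm).resolve_left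
    fun h => hw1 (Subtype.ext (Subtype.ext h))
  obtain ⟨k, hk⟩ := MulAction.exists_smul_eq G P' P
  refine ⟨k, ?_⟩
  have hkm : k * u * k⁻¹ ∈ (P : Subgroup G) := by
    have h1 : k * u * k⁻¹ ∈ ((k • P' : Sylow 2 G) : Subgroup G) :=
      ⟨u, hP' (Subgroup.mem_zpowers u), rfl⟩
    rwa [hk] at h1
  exact hwz ▸ hcw _ hkm

end Cfsg.Agent.Lib.SuzType57
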