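import Cfsg.Agent.Lib.SuzType57.Data

/-!
# Suzuki type: first consequences of the coordinates
-/

set_option autoImplicit false

namespace Cfsg.Agent.Lib.SuzType57

open Cfsg.Agent.Lib.LargeExtra

theorem act6_xr {l : List W} (hl : EvenWord l) (a b : W) :
    act6 l (xr a b) = xr (act6 l a) (act6 l b) := by
  simp only [act6, ← perm_apply frameT]
  exact (perm_mem frameT hl.1).1 a b

theorem act6_reverse (l : List W) (v : W) : act6 l (act6 l.reverse v) = v := by
  simp only [act6, ← perm_apply frameT, perm_reverse, Equiv.Perm.coe_inv, Equiv.apply_symm_apply]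

theorem act6_reverse' (l : List W) (v : W) : act6 l.reverse (act6 l v) = v := by
  simp only [act6, ← perm_apply frameT, perm_reverse, Equiv.Perm.coe_inv, Equiv.symm_apply_apply]

theorem act6_ext {l m : List W} (hl : EvenWord l) (hm : EvenWord m)
    (h : ∀ i < 6, act6 l (bv i) = act6 m (bv i)) (v : W) : act6 l v = act6 m v :=
  ext_basis (act6_xr hl) (act6_xr hm) h v

theorem act6_append (l m : List W) (v : W) : act6 (l ++ m) v = act6 l (act6 m v) := ap_append QT l m v

theorem evenWord_append {l m : List W} (hl : EvenWord l) (hm : EvenWord m) : EvenWord (l ++ m) :=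
  ⟨fun a ha => (List.mem_append.1 ha).elim (hl.1 a) (hm.1 a), by
    rw [List.length_append]; have := hl.2; have := hm.2; omega⟩

theorem evenWord_reverse {l : List W} (hl : EvenWord l) : EvenWord l.reverse :=
  ⟨fun a ha => hl.1 a (List.mem_reverse.1 ha), by rw [List.length_reverse]; exact hl.2⟩

theorem evenWord_nil : EvenWord ([] : List W) := ⟨fun _ h => by simp at h, rfl⟩

theorem stab_spec {l : List W} (hl : l ∈ stabOne) : EvenWord l := (enum_len l hl).1

theorem b6_xor (a b : W) : q6 (xr a b) = xor (b6 a b) (xor (q6 a) (q6 b)) := by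
  show qf QT (xr a b) = xor (bf QT a b) (xor (qf QT a) (qf QT b))
  unfold bf
  cases qf QT (xr a b) <;> cases qf QT a <;> cases qf QT b <;> rfl

namespace SData

variable {G : Type*} [Group G] (D : SData G)

/-- The extraspecial subgroup. -/
def X : Subgroup G := D.core D.z

theorem zz : D.z * D.z = 1 := D.good.x_sq

theorem z_ne : D.z ≠ 1 := D.good.x_ne

theorem z_inv : D.z⁻¹ = D.z := inv_eq_of_mul_eq_one_right D.zz

theorem z_mem : D.z ∈ D.X := D.good.x_mem

theorem X_comm {a : G} (ha : a ∈ D.X) : Commute a D.z := D.good.le_cent a ha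

theorem vec_one : D.vec 1 = 0 := (D.vec_eq_zero (one_mem _)).2 (Or.inl rfl)

theorem vec_z : D.vec D.z = 0 := (D.vec_eq_zero D.z_mem).2 (Or.inr rfl)

theorem vec_inv {a : G} (ha : a ∈ D.X) : D.vec a⁻¹ = D.vec a :=
  eq_of_xr_eq_zero (by rw [← D.vec_mul (inv_mem ha) ha, inv_mul_cancel, D.vec_one])

theorem vec_mul_z {a : G} (ha : a ∈ D.X) : D.vec (a * D.z) = D.vec a := by
  rw [D.vec_mul ha D.z_mem, D.vec_z, xr_zero]

theorem eq_or {a b : G} (ha : a ∈ D.X) (hb : b ∈ D.X) (h : D.vec a = D.vec b) :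
    b = a ∨ b = a * D.z := by
  have h0 : D.vec (a⁻¹ * b) = 0 := by
    rw [D.vec_mul (inv_mem ha) hb, D.vec_inv ha, h, xr_self]
  rcases (D.vec_eq_zero (mul_mem (inv_mem ha) hb)).1 h0 with r | r
  · exact Or.inl (inv_mul_eq_one.1 r).symm
  · exact Or.inr (inv_mul_eq_iff_eq_mul.1 r)

theorem conj_mem {c a : G} (hc : Commute c D.z) (ha : a ∈ D.X) : c * a * c⁻¹ ∈ D.X :=
  D.good.norm c hc a ha

theorem sq_eq {a : G} (ha : a ∈ D.X) : a * a = if q6 (D.vec a) then D.z else 1 := by
  cases h : q6 (D.vec a)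
  · simpa using (D.vec_sq ha).1 h
  · simp only [if_true]
    refine (D.good.sq_cases ha).resolve_left fun e => ?_
    rw [(D.vec_sq ha).2 e] at h
    exact Bool.false_ne_true h

theorem sq_one {a : G} (ha : a ∈ D.X) (h : q6 (D.vec a) = false) : a * a = 1 := (D.vec_sq ha).1 h

theorem sq_z {a : G} (ha : a ∈ D.X) (h : q6 (D.vec a) = true) : a * a = D.z := by
  rw [D.sq_eq ha, if_pos h]

theorem conj_eq {a b : G} (ha : a ∈ D.X) (hb : b ∈ D.X) :
    a * b * a⁻¹ = if b6 (D.vec a) (D.vec b) then b * D.z else b := by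
  have hab : a * b * (a * b) = b * b * (a * a) * (b⁻¹ * (a * b * a⁻¹)) := by
    have hca : Commute (a * a) b := by
      rw [D.sq_eq ha]; split
      · exact (D.X_comm hb).symm
      · exact Commute.one_left b
    obtain ⟨w, hw, hwc⟩ : ∃ w, a * b * a⁻¹ = b * w ∧ (w = 1 ∨ w = D.z) := by
      rcases D.good.comm a ha b hb with r | r
      · exact ⟨1, by rw [r, mul_one], Or.inl rfl⟩
      · exact ⟨D.z, r, Or.inr rfl⟩
    have hwb : Commute w b := by
      rcases hwc with rfl | rfl
      exacts [Commute.one_left b, (D.X_comm hb).symm]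
    have hwa : Commute w (a * a) := by
      rcases hwc with rfl | rfl
      exacts [Commute.one_left _, ((D.X_comm ha).mul_left (D.X_comm ha)).symm]
    rw [hw, inv_mul_cancel_left]
    calc a * b * (a * b) = (a * b * a⁻¹) * (a * a) * b := by group
      _ = b * (w * ((a * a) * b)) := by rw [hw]; group
      _ = b * (w * (b * (a * a))) := by rw [hca.eq]
      _ = b * (b * (w * (a * a))) := by rw [← mul_assoc w, hwb.eq, mul_assoc]
      _ = b * b * (a * a) * w := by rw [hwa.eq]; group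
  have hs := D.sq_eq (mul_mem ha hb)
  rw [hab, D.vec_mul ha hb, b6_xor, D.sq_eq ha, D.sq_eq hb] at hs
  rcases D.good.comm a ha b hb with r | r <;> rw [r] at hs ⊢ <;>
    simp only [inv_mul_cancel, inv_mul_cancel_left, mul_one] at hs
  · cases h : b6 (D.vec a) (D.vec b)
    · simp
    · exfalso
      rw [h] at hs
      cases hx : q6 (D.vec a) <;> cases hy : q6 (D.vec b) <;>
        simp [hx, hy, D.zz, D.z_ne, Ne.symm D.z_ne] at hs
  · cases h : b6 (D.vec a) (D.vec b)
    · exfalso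
      rw [h] at hs
      cases hx : q6 (D.vec a) <;> cases hy : q6 (D.vec b) <;>
        simp [hx, hy, D.zz, D.z_ne, Ne.symm D.z_ne] at hs
    · simp

theorem comm_of {a b : G} (ha : a ∈ D.X) (hb : b ∈ D.X) (h : b6 (D.vec a) (D.vec b) = false) :
    Commute a b := by
  have e := D.conj_eq ha hb
  rw [h, if_neg (by simp)] at e
  exact mul_inv_eq_iff_eq_mul.1 e

theorem not_comm_of {a b : G} (ha : a ∈ D.X) (hb : b ∈ D.X) (h : b6 (D.vec a) (D.vec b) = true) :
    ¬ Commute a b := by
  intro hc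
  have e := D.conj_eq ha hb
  rw [h, if_pos rfl, hc.eq, mul_inv_cancel_right] at e
  exact D.z_ne (by simpa using e.symm)

theorem perp_of_comm {a b : G} (ha : a ∈ D.X) (hb : b ∈ D.X) (h : Commute a b) :
    b6 (D.vec a) (D.vec b) = false := by
  by_contra hne
  exact D.not_comm_of ha hb (by simpa using hne) h

/-- `c` centralizes `z` and acts as the word `l`. -/
def Acts (c : G) (l : List W) : Prop :=
  Commute c D.z ∧ ∀ a ∈ D.X, D.vec (c * a * c⁻¹) = act6 l (D.vec a)

variable {D}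

theorem Acts.congr {c : G} {l m : List W} (h : D.Acts c l) (e : ∀ v, act6 l v = act6 m v) :
    D.Acts c m := ⟨h.1, fun a ha => (h.2 a ha).trans (e _)⟩

theorem Acts.mul {c d : G} {l m : List W} (hc : D.Acts c l) (hd : D.Acts d m) :
    D.Acts (c * d) (l ++ m) := by
  refine ⟨hc.1.mul_left hd.1, fun a ha => ?_⟩
  rw [act6_append, ← hd.2 a ha, ← hc.2 _ (D.conj_mem hd.1 ha)]
  congr 1
  group

theorem Acts.inv {c : G} {l : List W} (hc : D.Acts c l) : D.Acts c⁻¹ l.reverse := by
  refine ⟨hc.1.inv_left, fun a ha => ?_⟩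
  have h := hc.2 _ (D.conj_mem hc.1.inv_left ha)
  rw [show c * (c⁻¹ * a * c⁻¹⁻¹) * c⁻¹ = a by group] at h
  rw [h, act6_reverse']

theorem Acts.conj {c t : G} {g l : List W} (hc : D.Acts c g) (ht : D.Acts t l) {m : List W}
    (e : ∀ v, act6 g (act6 l v) = act6 m (act6 g v)) : D.Acts (c * t * c⁻¹) m :=
  ((hc.mul ht).mul hc.inv).congr fun v => by
    rw [act6_append, act6_append, e, act6_reverse]

theorem Acts.eq_of {c : G} {l m : List W} (hl : D.Acts c l) (hm : D.Acts c m) (v : W) :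
    act6 l v = act6 m v := by
  obtain ⟨a, ha, rfl⟩ := D.vec_surj v
  rw [← hl.2 a ha, hm.2 a ha]

theorem acts_mem {x : G} (hx : x ∈ D.X) : D.Acts x [] := by
  refine ⟨D.X_comm hx, fun a ha => ?_⟩
  rcases D.good.comm x hx a ha with r | r <;> rw [r]
  · rfl
  · exact D.vec_mul_z ha

theorem Acts.mem_of_trivial [Finite G] {c : G} {l : List W} (hc : D.Acts c l)
    (h : ∀ v, act6 l v = v) : c ∈ D.X :=
  mem_of_inner D.good c fun a ha =>
    D.eq_or ha (D.conj_mem hc.1 ha) (by rw [hc.2 a ha, h])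

variable (D)

theorem exists_word {c : G} (hc : Commute c D.z) : ∃ l, EvenWord l ∧ D.Acts c l := by
  obtain ⟨l, hl, h⟩ := D.word hc
  exact ⟨l, hl, hc, h⟩

theorem exists_lift {l : List W} (hl : EvenWord l) : ∃ c, D.Acts c l := by
  obtain ⟨c, hc, h⟩ := D.lift hl
  exact ⟨c, hc, h⟩

/-- Conjugacy inside the centralizer. -/
def CConj (t t' : G) : Prop := ∃ c, Commute c D.z ∧ c * t * c⁻¹ = t'

variable {D}

theorem CConj.refl (t : G) : D.CConj t t := ⟨1, Commute.one_left _, by simp⟩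

theorem CConj.symm {t t' : G} (h : D.CConj t t') : D.CConj t' t := by
  obtain ⟨c, hc, rfl⟩ := h
  exact ⟨c⁻¹, hc.inv_left, by group⟩

theorem CConj.trans {t t' t'' : G} (h : D.CConj t t') (h' : D.CConj t' t'') : D.CConj t t'' := by
  obtain ⟨c, hc, rfl⟩ := h
  obtain ⟨d, hd, rfl⟩ := h'
  exact ⟨d * c, hd.mul_left hc, by group⟩

theorem CConj.mul_z {t t' : G} (h : D.CConj t t') : D.CConj (t * D.z) (t' * D.z) := by
  obtain ⟨c, hc, rfl⟩ := h
  refine ⟨c, hc, ?_⟩
  rw [show c * (t * D.z) * c⁻¹ = c * t * c⁻¹ * (c * D.z * c⁻¹) by group,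
    show c * D.z * c⁻¹ = D.z by rw [hc.eq]; group]

theorem CConj.isConj {t t' : G} (h : D.CConj t t') : IsConj t t' := by
  obtain ⟨c, -, hc⟩ := h
  exact isConj_iff.2 ⟨c, hc⟩

end SData

end Cfsg.Agent.Lib.SuzType57
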