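import Cfsg.Agent.Lib.SuzType57.Facts

/-!
# Further small facts
-/

set_option autoImplicit false

namespace Cfsg.Agent.Lib.SuzType57

/-- The representatives of the plane. -/
abbrev plane : List W := [0, 16, 32, 48]

/-- The centralizer of an involution over `wordC`, modulo the centre. -/
def centK (e f : W) : List W :=
  [0, 1, xr 16 e, xr 1 (xr 16 e), xr 32 f, xr 1 (xr 32 f), xr (xr 16 e) (xr 32 f),
    xr 1 (xr (xr 16 e) (xr 32 f))]

theorem cent_C' {l : List W} (hl : l ∈ stabOne)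
    (hc : ∀ i < 6, act6 l (act6 wordC (bv i)) = act6 wordC (act6 l (bv i))) {e f : W}
    (he : e ∈ ([0, 12] : List W)) (hf : f ∈ ([0, 12] : List W))
    (h : ∀ k ∈ centK e f, act6 l k ∈ centK e f ∧ q6 (xr (act6 l k) k) = false) : InR l :=
  cent_C l hl hc e he f hf h

theorem centK_cover : ∀ e ∈ ([0, 12] : List W), ∀ f ∈ ([0, 12] : List W), ∀ v : W,
    act6 wordC v = v → v ∈ centK e f ∨ xr v 12 ∈ centK e f := by decide +kernel

theorem centK_fix : ∀ e ∈ ([0, 12] : List W), ∀ f ∈ ([0, 12] : List W),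
    b6 (xr 16 e) (xr 32 f) = true ∧ ∀ k ∈ centK e f, act6 wordC k = k := by decide +kernel

theorem perp_pair : ∀ v : W, v ≠ 0 → q6 v = false → ∃ a b : W, q6 a = false ∧ q6 b = false ∧
    b6 v a = false ∧ b6 v b = false ∧ b6 a b = true := by decide +kernel

theorem small_facts : q6 1 = false ∧ q6 4 = false ∧ q6 12 = true ∧
    (∀ u ∈ plane, u ≠ 0 → q6 u = true ∧ b6 1 u = false ∧ b6 4 u = false) ∧
    b6 1 4 = false ∧ b6 1 12 = false ∧
    xr (act6 wordC 6) 6 = 12 ∧ xr (act6 wordC 4) 4 = 1 ∧ xr (act6 wordA 8) 8 = 1 ∧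
    act6 wordT 4 = 8 ∧ xr 4 8 = 12 ∧
    (∀ u ∈ plane, act6 wordA u = u ∧ act6 wordC u = u) := by decide +kernel

theorem planeX : ∀ u ∈ plane, u ≠ 0 → act6 wordX u ∈ plane ∧ act6 wordX u ≠ 0 ∧
    b6 u (act6 wordX u) = true ∧ act6 wordX (act6 wordX u) = xr u (act6 wordX u) ∧
    xr u (act6 wordX u) ≠ 0 ∧ xr u (act6 wordX u) ∈ plane := by decide +kernel

theorem plane_triple : ∀ u ∈ plane, ∀ a ∈ plane, ∀ b ∈ plane, u ≠ 0 → a ≠ 0 → b ≠ 0 →
    a ≠ b → u = a ∨ u = b ∨ (u = xr a b ∧ b6 a b = true) := by decide +kernel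

theorem plane_disjoint : ∀ h ∈ ([wordA, wordC] : List (List W)), ∀ p : W,
    xr (act6 h p) p ∈ plane → xr (act6 h p) p = 0 := by decide +kernel

theorem rad_fix_one : ∀ l ∈ stabOne, act6 l 1 = 1 := fun l hl => (enum_len l hl).2

theorem inR_pair : ∀ v : W, b6 1 v = false → b6 1 (xr v 1) = false := by decide +kernel

end Cfsg.Agent.Lib.SuzType57
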