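import Cfsg.Agent.Lib.SuzType57.Local

/-!
# Fusion through a second involution of the extraspecial subgroup
-/

set_option autoImplicit false
set_option linter.unusedSectionVars false

namespace Cfsg.Agent.Lib.SuzType57

open Cfsg.Agent.Lib.LargeExtra

/-- `Good` is carried along by conjugation. -/
theorem good_map {G : Type*} [Group G] {X : Subgroup G} {x : G} (h : Good X x) (τ : G) :
    Good (X.map (MulAut.conj τ).toMonoidHom) (τ * x * τ⁻¹) := by
  have hmem : ∀ {q : G}, q ∈ X.map (MulAut.conj τ).toMonoidHom → ∃ a ∈ X, τ * a * τ⁻¹ = q := by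
    rintro q ⟨a, ha, rfl⟩; exact ⟨a, ha, rfl⟩
  have mk : ∀ {a : G}, a ∈ X → τ * a * τ⁻¹ ∈ X.map (MulAut.conj τ).toMonoidHom :=
    fun ha => ⟨_, ha, rfl⟩
  refine ⟨mk h.x_mem, ?_, ?_, ?_, ?_, ?_, ?_, ?_, ?_⟩
  · rw [show τ * x * τ⁻¹ * (τ * x * τ⁻¹) = τ * (x * x) * τ⁻¹ by group, h.x_sq]; group
  · simpa using h.x_ne
  · intro q hq
    obtain ⟨a, ha, rfl⟩ := hmem hq
    rw [show τ * a * τ⁻¹ * (τ * x * τ⁻¹) = τ * (a * x) * τ⁻¹ by group, h.le_cent a ha]; group
  · intro p hp q hq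
    obtain ⟨a, ha, rfl⟩ := hmem hp
    obtain ⟨b, hb, rfl⟩ := hmem hq
    have e : τ * a * τ⁻¹ * (τ * b * τ⁻¹) * (τ * a * τ⁻¹)⁻¹ = τ * (a * b * a⁻¹) * τ⁻¹ := by group
    rcases h.comm a ha b hb with r | r <;> rw [e, r]
    · exact Or.inl rfl
    · right; group
  · intro p hp hall
    obtain ⟨a, ha, rfl⟩ := hmem hp
    rcases h.centre a ha (fun b hb => by
      have := hall _ (mk hb)
      rw [show τ * a * τ⁻¹ * (τ * b * τ⁻¹) = τ * (a * b) * τ⁻¹ by group,
        show τ * b * τ⁻¹ * (τ * a * τ⁻¹) = τ * (b * a) * τ⁻¹ by group] at this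
      simpa using this) with r | r
    · left; rw [r]; group
    · right; rw [r]
  · obtain ⟨a, ha, b, hb, hne⟩ := h.nonab
    refine ⟨_, mk ha, _, mk hb, fun e => hne ?_⟩
    rw [show τ * a * τ⁻¹ * (τ * b * τ⁻¹) = τ * (a * b) * τ⁻¹ by group,
      show τ * b * τ⁻¹ * (τ * a * τ⁻¹) = τ * (b * a) * τ⁻¹ by group] at e
    simpa using e
  · intro g hg q hq
    obtain ⟨a, ha, rfl⟩ := hmem hq
    have hc : (τ⁻¹ * g * τ) * x = x * (τ⁻¹ * g * τ) := by
      calc (τ⁻¹ * g * τ) * x = τ⁻¹ * (g * (τ * x * τ⁻¹)) * τ := by group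
        _ = x * (τ⁻¹ * g * τ) := by rw [hg]; group
    have := mk (h.norm _ hc a ha)
    simpa [mul_assoc] using this
  · intro g hg
    have := mk (h.cent (τ⁻¹ * g * τ) fun a ha => by
      have := hg _ (mk ha)
      calc τ⁻¹ * g * τ * a = τ⁻¹ * (g * (τ * a * τ⁻¹)) * τ := by group
        _ = a * (τ⁻¹ * g * τ) := by rw [this]; group)
    simpa [mul_assoc] using this

namespace SData

variable {G : Type*} [Group G] [Finite G] {D : SData G}

theorem core_conj_iff {g x a : G} : a ∈ D.core (g * x * g⁻¹) ↔ g⁻¹ * a * g ∈ D.core x := by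
  constructor
  · intro h
    simpa [mul_assoc] using D.isCore.conj_mem g⁻¹ h
  · intro h
    simpa [mul_assoc] using D.isCore.conj_mem g h

/-- A base point: an element with first coordinate vector. -/
def IsBase (D : SData G) (s : G) : Prop := s ∈ D.X ∧ D.vec s = 1

theorem exists_base (D : SData G) : ∃ s, D.IsBase s := D.vec_surj 1

variable {s : G} (hs : D.IsBase s)

include hs

theorem base_sq : s * s = 1 := D.sq_one hs.1 (by rw [hs.2]; exact small_facts.1)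

theorem base_ne_one : s ≠ 1 := fun e => by
  have := hs.2
  rw [e, D.vec_one] at this
  exact absurd this (by decide)

theorem base_ne_z : s ≠ D.z := fun e => by
  have := hs.2
  rw [e, D.vec_z] at this
  exact absurd this (by decide)

theorem base_comm {a : G} (ha : a ∈ D.X) (h : b6 1 (D.vec a) = false) : Commute s a :=
  D.comm_of hs.1 ha (by rw [hs.2]; exact h)

/-- The move `s ↦ s z` inside the extraspecial subgroup. -/
theorem exists_base_move : ∃ q ∈ D.X, q * s * q⁻¹ = s * D.z := by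
  obtain ⟨q, hq, hqv⟩ := D.vec_surj 2
  refine ⟨q, hq, ?_⟩
  rw [D.conj_eq hq hs.1, hqv, hs.2, if_pos (by decide +kernel)]

theorem isConj_base {a : G} (ha : a ∈ D.X) (h0 : D.vec a ≠ 0) (hq : q6 (D.vec a) = false) :
    IsConj a s := by
  obtain ⟨w, hw, hwv⟩ := toOne_spec.2 _ h0 hq
  obtain ⟨c, hc⟩ := D.exists_lift (toOne_spec.1 w hw)
  have hm := D.conj_mem hc.1 ha
  have h1 : IsConj a (c * a * c⁻¹) := isConj_iff.2 ⟨c, rfl⟩
  rcases D.eq_or hs.1 hm (by rw [hs.2, hc.2 a ha, hwv]) with r | r <;> rw [r] at h1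
  · exact h1
  · obtain ⟨q, -, hq'⟩ := exists_base_move hs
    exact h1.trans (isConj_iff.2 ⟨q, hq'⟩).symm

theorem exists_base_conj : ∃ g, g * D.z * g⁻¹ = s := by
  obtain ⟨g, hg, hne⟩ := D.exists_fused
  have hsq : g * D.z * g⁻¹ * (g * D.z * g⁻¹) = 1 := by
    rw [conj_mul, D.zz, mul_one, mul_inv_cancel]
  have h0 : D.vec (g * D.z * g⁻¹) ≠ 0 := fun e => by
    rcases (D.vec_eq_zero hg).1 e with r | r
    · exact D.z_ne (conj_eq_one_iff.1 r)
    · exact hne r
  exact isConj_iff.1 ((isConj_iff.2 ⟨g, rfl⟩ : IsConj D.z _).trans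
    (isConj_base hs hg h0 ((D.vec_sq hg).2 hsq)))

theorem isConj_z_of_mem {a : G} (ha : a ∈ D.X) (h2 : a * a = 1) (h1 : a ≠ 1) : IsConj a D.z := by
  by_cases haz : a = D.z
  · exact haz ▸ IsConj.refl a
  obtain ⟨g, hg⟩ := exists_base_conj hs
  exact (isConj_base hs ha (fun e => ((D.vec_eq_zero ha).1 e).elim h1 haz) ((D.vec_sq ha).2 h2)).trans
    (isConj_iff.2 ⟨g, hg⟩).symm

theorem good_base : Good (D.core s) s := by
  obtain ⟨g, hg⟩ := exists_base_conj hs
  have := good_map D.good g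
  rw [← hg]
  convert this using 1
  ext a
  rw [core_conj_iff, Subgroup.mem_map]
  constructor
  · exact fun h => ⟨_, h, by simp [MulAut.conj_apply, mul_assoc]⟩
  · rintro ⟨b, hb, rfl⟩; simpa [MulAut.conj_apply, mul_assoc] using hb

theorem z_mem_base : D.z ∈ D.core s := D.isCore.orth_symm (good_base hs) D.good hs.1

theorem exists_fix_lift {l : List W} (hl : EvenWord l) (h1 : act6 l 1 = 1) :
    ∃ c, D.Acts c l ∧ Commute c s := by
  obtain ⟨c, hc⟩ := D.exists_lift hl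
  rcases D.eq_or hs.1 (D.conj_mem hc.1 hs.1) (by rw [hs.2, hc.2 s hs.1, hs.2, h1]) with r | r
  · exact ⟨c, hc, mul_inv_eq_iff_eq_mul.1 r⟩
  · obtain ⟨q, hq, hq'⟩ := exists_base_move hs
    refine ⟨q⁻¹ * c, ((acts_mem (inv_mem hq)).mul hc).congr fun v => by rw [act6_append]; rfl,
      mul_inv_eq_iff_eq_mul.1 ?_⟩
    rw [show q⁻¹ * c * s * (q⁻¹ * c)⁻¹ = q⁻¹ * (c * s * c⁻¹) * q by group, r, ← hq']
    group

theorem base_conj_mem {c a : G} (hc : Commute c s) (ha : a ∈ D.core s) : c * a * c⁻¹ ∈ D.core s :=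
  D.isCore.normalized hc ha

theorem inter_vec {a : G} (ha : a ∈ D.X) (ha' : a ∈ D.core s) : D.vec a = 0 ∨ D.vec a = 1 := by
  have hsing : ∀ {b}, b ∈ D.X → b ∈ D.core s → q6 (D.vec b) = false := by
    intro b hb hb'
    refine (D.vec_sq hb).2 (((good_base hs).sq_cases hb').resolve_right fun e => ?_)
    rcases D.good.sq_cases hb with r | r <;> rw [r] at e
    · exact base_ne_one hs e.symm
    · exact base_ne_z hs e.symm
  by_contra hne
  push Not at hne
  have hb1 : b6 1 (D.vec a) = false := by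
    rw [← hs.2]
    exact D.perp_of_comm hs.1 ha (show Commute s a from ((good_base hs).le_cent a ha').symm)
  obtain ⟨g, hg, hgv⟩ := singular_moved _ hb1 (hsing ha ha') hne.1 hne.2
  obtain ⟨c, hc, hcs⟩ := exists_fix_lift hs (stab_spec hg) (rad_fix_one g hg)
  have hm := D.conj_mem hc.1 ha
  have h := hsing (mul_mem ha hm) (mul_mem ha' (base_conj_mem hs hcs ha'))
  rw [D.vec_mul ha hm, b6_xor, hsing ha ha', hsing hm (base_conj_mem hs hcs ha'), hc.2 a ha, hgv] at h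
  simp at h

theorem inter_comm {a b : G} (ha : a ∈ D.X) (ha' : a ∈ D.core s) (hb : b ∈ D.X)
    (h : b6 1 (D.vec b) = false) : Commute a b := by
  refine D.comm_of ha hb ?_
  rcases inter_vec hs ha ha' with r | r <;> rw [r]
  · revert h; generalize D.vec b = v; revert v; decide +kernel
  · exact h

theorem twist {t a : G} (ht : t ∈ D.core s) (htz : Commute t D.z) (ha : a ∈ D.X)
    (h : b6 1 (D.vec a) = false) :
    a⁻¹ * (t * a * t⁻¹) ∈ D.X ∧ a⁻¹ * (t * a * t⁻¹) ∈ D.core s := by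
  refine ⟨mul_mem (inv_mem ha) (D.conj_mem htz ha), ?_⟩
  have h1 := base_conj_mem hs (base_comm hs ha h).symm.inv_left ht
  rw [inv_inv] at h1
  simpa [mul_assoc] using mul_mem h1 (inv_mem ht)

theorem exists_rad {t : G} (ht : t ∈ D.core s) (htz : Commute t D.z) :
    ∃ m ∈ stabOne, InR m ∧ D.Acts t m := by
  obtain ⟨l, -, hl⟩ := D.exists_word htz
  have h1 : act6 l 1 = 1 := by
    rw [← hs.2, ← hl.2 s hs.1, ((good_base hs).le_cent t ht), mul_inv_cancel_right]
  obtain ⟨m, hm, hmv⟩ := D.word_one hl.1 hl.2 h1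
  refine ⟨m, hm, fun v hv => ?_, htz, hmv⟩
  obtain ⟨a, ha, rfl⟩ := D.vec_surj v
  obtain ⟨he, he'⟩ := twist hs ht htz ha hv
  have hv2 : D.vec (a⁻¹ * (t * a * t⁻¹)) = xr (D.vec a) (act6 m (D.vec a)) := by
    rw [D.vec_mul (inv_mem ha) (D.conj_mem htz ha), D.vec_inv ha]
    exact congrArg _ (hmv a ha)
  rcases inter_vec hs he he' with r | r <;> rw [hv2] at r
  · exact Or.inl (eq_of_xr_eq_zero r).symm
  · right
    rw [← r, xr_cancel]

/-- No involution of the second core induces the non-singular element. -/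
theorem not_C {t : G} (ht : t ∈ D.core s) (ht2 : t * t = 1) (hC : D.Acts t wordC) : False := by
  obtain ⟨c, hc, hcs⟩ := exists_fix_lift hs wordT_spec.1 wordT_spec.2.1
  obtain ⟨y, hy, hyv⟩ := D.vec_surj 4
  have hy1 : b6 1 (D.vec y) = false := by rw [hyv]; exact small_facts.2.2.2.2.1
  set t' := c * t * c⁻¹ with ht'def
  set y' := c * y * c⁻¹ with hy'def
  have hy' : y' ∈ D.X := D.conj_mem hc.1 hy
  have hy'v : D.vec y' = 8 := by rw [hy'def, hc.2 y hy, hyv]; exact wordT_spec.2.2.1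
  have hy'1 : b6 1 (D.vec y') = false := by rw [hy'v]; decide +kernel
  obtain ⟨hw, hw'⟩ := twist hs ht hC.1 hy hy1
  set w := y⁻¹ * (t * y * t⁻¹) with hwdef
  have hwv : D.vec w = 1 := by
    rw [hwdef, D.vec_mul (inv_mem hy) (D.conj_mem hC.1 hy), D.vec_inv hy, hC.2 y hy, hyv, xr_comm]
    exact small_facts.2.2.2.2.2.2.2.1
  have hcw : c * w * c⁻¹ = w := by
    rcases D.eq_or hs.1 hw (hs.2.trans hwv.symm) with r | r <;> rw [r]
    · rw [hcs.eq]; group
    · rw [show c * (s * D.z) * c⁻¹ = c * s * c⁻¹ * (c * D.z * c⁻¹) by group, hcs.eq, hc.1.eq]; group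
  have hC' : D.Acts t' wordC := hc.conj hC wordT_spec.2.2.2
  have hd : t * t' ∈ D.X := (hC.mul hC').mem_of_trivial fun v => by
    rw [act6_append, wordC_spec.2.2.2]
  have hd' : t * t' ∈ D.core s := mul_mem ht (base_conj_mem hs hcs ht)
  have hdy : (t * t') * y' * (t * t')⁻¹ = y' := by rw [(inter_comm hs hd hd' hy' hy'1).eq]; group
  have htt : t⁻¹ = t := inv_eq_of_mul_eq_one_right ht2
  have h2 : t' * y' * t'⁻¹ = y' * w := by
    rw [ht'def, hy'def, show c * t * c⁻¹ * (c * y * c⁻¹) * (c * t * c⁻¹)⁻¹ =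
      c * (y * (y⁻¹ * (t * y * t⁻¹))) * c⁻¹ by group, ← hwdef,
      show c * (y * w) * c⁻¹ = c * y * c⁻¹ * (c * w * c⁻¹) by group, hcw]
  have h3 : t * y' * t⁻¹ = y' * w := by
    rw [← h2]
    conv_lhs => rw [← hdy]
    rw [show t * (t * t' * y' * (t * t')⁻¹) * t⁻¹ = (t * t) * (t' * y' * t'⁻¹) * (t⁻¹ * t⁻¹) by group,
      htt, ht2, one_mul, mul_one]
  have h4 : t * y * t⁻¹ = y * w := by rw [hwdef]; group
  have hwy : Commute w y := inter_comm hs hw hw' hy hy1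
  have hwy' : Commute w y' := inter_comm hs hw hw' hy' hy'1
  have hM : t * (y⁻¹ * y') * t⁻¹ = y⁻¹ * y' := by
    rw [show t * (y⁻¹ * y') * t⁻¹ = (t * y * t⁻¹)⁻¹ * (t * y' * t⁻¹) by group, h3, h4, mul_inv_rev,
      ← hwy'.eq]
    rw [show w⁻¹ * y⁻¹ * (w * y') = w⁻¹ * (y⁻¹ * w) * y' by group, ← hwy.inv_right.eq]
    group
  have h5 := conj_m hC ht2 (mul_mem (inv_mem hy) hy')
    (by rw [D.vec_mul (inv_mem hy) hy', D.vec_inv hy, hyv, hy'v]
        exact small_facts.2.2.2.2.2.2.2.2.2.2.1)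
  rw [hM] at h5
  exact D.z_ne (mul_left_cancel (h5.symm.trans (mul_one (y⁻¹ * y')).symm))

theorem isConj_z_of_mem_base {a : G} (ha : a ∈ D.core s) (h2 : a * a = 1) (h1 : a ≠ 1) :
    IsConj a D.z := by
  obtain ⟨g, hg⟩ := exists_base_conj hs
  rw [← hg, core_conj_iff] at ha
  refine (isConj_iff.2 ⟨g⁻¹, rfl⟩ : IsConj a _).trans
    (isConj_z_of_mem hs (a := g⁻¹ * a * g⁻¹⁻¹) (by rw [inv_inv]; exact ha) ?_ ?_)
  · rw [conj_mul, h2, mul_one, mul_inv_cancel]
  · exact fun e => h1 (conj_eq_one_iff.1 e)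

/-- An involution of the second core over the singular element. -/
theorem exists_ta : ∃ t ∈ D.core s, t * t = 1 ∧ D.Acts t wordA := by
  obtain ⟨g, hg⟩ := exists_base_conj hs
  have hzs : D.z ∈ D.core (g * D.z * g⁻¹) := hg.symm ▸ z_mem_base hs
  have hv' : g⁻¹ * D.z * g ∈ D.X := core_conj_iff.1 hzs
  have hsq : g⁻¹ * D.z * g * (g⁻¹ * D.z * g) = 1 := by
    rw [show g⁻¹ * D.z * g * (g⁻¹ * D.z * g) = g⁻¹ * (D.z * D.z) * g by group, D.zz]; group
  have h0 : D.vec (g⁻¹ * D.z * g) ≠ 0 := fun e => by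
    rcases (D.vec_eq_zero hv').1 e with r | r
    · exact D.z_ne (calc D.z = g * (g⁻¹ * D.z * g) * g⁻¹ := by group
        _ = 1 := by rw [r]; group)
    · refine base_ne_z hs ?_
      rw [← hg]
      have := congrArg (fun x => g * x * g⁻¹) r
      simpa [mul_assoc] using this.symm
  obtain ⟨v₁, v₂, hq1, hq2, hb1, hb2, hb⟩ := perp_pair _ h0 ((D.vec_sq hv').2 hsq)
  obtain ⟨a₁, ha₁, rfl⟩ := D.vec_surj v₁
  obtain ⟨a₂, ha₂, rfl⟩ := D.vec_surj v₂
  have move : ∀ {a}, a ∈ D.X → q6 (D.vec a) = false → b6 (D.vec (g⁻¹ * D.z * g)) (D.vec a) = false →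
      g * a * g⁻¹ ∈ D.core s ∧ g * a * g⁻¹ * (g * a * g⁻¹) = 1 ∧ Commute (g * a * g⁻¹) D.z := by
    intro a ha hq hp
    refine ⟨hg ▸ D.isCore.conj_mem g ha, ?_, ?_⟩
    · rw [conj_mul, D.sq_one ha hq, mul_one, mul_inv_cancel]
    · have e := D.comm_of hv' ha hp
      show g * a * g⁻¹ * D.z = D.z * (g * a * g⁻¹)
      calc g * a * g⁻¹ * D.z = g * (a * (g⁻¹ * D.z * g)) * g⁻¹ := by group
        _ = g * (g⁻¹ * D.z * g * a) * g⁻¹ := by rw [e.eq]
        _ = _ := by group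
  obtain ⟨m₁, i₁, z₁⟩ := move ha₁ hq1 hb1
  obtain ⟨m₂, i₂, z₂⟩ := move ha₂ hq2 hb2
  obtain ⟨t, ht, ht2, htz, htX⟩ : ∃ t, t ∈ D.core s ∧ t * t = 1 ∧ Commute t D.z ∧ t ∉ D.X := by
    by_cases h1 : g * a₁ * g⁻¹ ∈ D.X
    swap
    · exact ⟨_, m₁, i₁, z₁, h1⟩
    by_cases h2 : g * a₂ * g⁻¹ ∈ D.X
    swap
    · exact ⟨_, m₂, i₂, z₂, h2⟩
    exfalso
    refine D.not_comm_of ha₁ ha₂ hb ?_
    have e := inter_comm hs h1 m₁ h2 (by
      rcases inter_vec hs h2 m₂ with r | r <;> rw [r] <;> decide +kernel)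
    show a₁ * a₂ = a₂ * a₁
    calc a₁ * a₂ = g⁻¹ * (g * a₁ * g⁻¹ * (g * a₂ * g⁻¹)) * g := by group
      _ = g⁻¹ * (g * a₂ * g⁻¹ * (g * a₁ * g⁻¹)) * g := by rw [e.eq]
      _ = _ := by group
  obtain ⟨m, hm, hR, hact⟩ := exists_rad hs ht htz
  obtain ⟨w, hw, hwe, hw1, hc⟩ := rad_classes m hm hR fun h =>
    htX (hact.mem_of_trivial (act6_ext (stab_spec hm) evenWord_nil h))
  obtain ⟨c, hc', hcs⟩ := exists_fix_lift hs hwe hw1
  have hext : ∀ {r : List W}, EvenWord r →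
      (∀ i < 6, act6 w (act6 m (bv i)) = act6 r (act6 w (bv i))) →
      ∀ v, act6 w (act6 m v) = act6 r (act6 w v) := by
    intro r hr h v
    rw [← act6_append, ← act6_append]
    exact act6_ext (evenWord_append hwe (stab_spec hm)) (evenWord_append hr hwe)
      (fun i hi => by rw [act6_append, act6_append]; exact h i hi) v
  have hsq' : c * t * c⁻¹ * (c * t * c⁻¹) = 1 := by rw [conj_mul, ht2, mul_one, mul_inv_cancel]
  rcases hc with h | h
  · exact ⟨_, base_conj_mem hs hcs ht, hsq', hc'.conj hact (hext wordA_spec.1 h)⟩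
  · exact (not_C hs (base_conj_mem hs hcs ht) hsq' (hc'.conj hact (hext wordC_spec.1 h))).elim

/-- All involutions over the singular element are conjugate to `z`. -/
theorem isConj_z_of_A {t : G} (ht : D.Acts t wordA) (ht2 : t * t = 1) : IsConj t D.z := by
  obtain ⟨ta, hta, hta2, htaA⟩ := exists_ta hs
  have hne : ∀ {x}, D.Acts x wordA → x ≠ 1 := fun {x} hx e => by
    subst e
    have := hx.eq_of (acts_mem (one_mem _)) 8
    revert this; decide +kernel
  rcases cconj_over (by simp) htaA hta2 ht ht2 with r | r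
  · exact r.isConj.trans (isConj_z_of_mem_base hs hta hta2 (hne htaA))
  · refine r.isConj.trans (isConj_z_of_mem_base hs (mul_mem hta (z_mem_base hs)) ?_ ?_)
    · rw [show ta * D.z * (ta * D.z) = ta * (D.z * ta) * D.z by group, ← htaA.1.eq,
        show ta * (ta * D.z) * D.z = ta * ta * (D.z * D.z) by group, hta2, D.zz, one_mul]
    · intro e
      have h : D.Acts (ta * D.z) wordA :=
        (htaA.mul (acts_mem D.z_mem)).congr fun v => by rw [act6_append]; rfl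
      exact hne h e

/-- The centralizer in the extraspecial subgroup, over the singular element. -/
theorem nonab_A : ∃ t, D.Acts t wordA ∧ t * t = 1 ∧
    ∃ a ∈ D.X, ∃ b ∈ D.X, Commute t a ∧ Commute t b ∧ ¬ Commute a b := by
  obtain ⟨t, ht, ht2, htA⟩ := exists_ta hs
  refine ⟨t, htA, ht2, ?_⟩
  obtain ⟨c, hc, hcs⟩ := exists_fix_lift hs wordX_spec.1 wordX_spec.2.1
  have hct : D.Acts (c * t * c⁻¹) wordA := hc.conj htA wordX_spec.2.2.1
  have hd : t * (c * t * c⁻¹) ∈ D.X := (htA.mul hct).mem_of_trivial fun v => by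
    rw [act6_append, wordA_spec.2.2.2]
  have hd' : t * (c * t * c⁻¹) ∈ D.core s := mul_mem ht (base_conj_mem hs hcs ht)
  obtain ⟨q, hq, hqv⟩ := D.vec_surj 8
  have hk : ∃ k, D.Acts k wordX ∧ (k * t * k⁻¹ = t ∨ k * t * k⁻¹ = t * D.z) := by
    set d := t * (c * t * c⁻¹) with hddef
    have hce : c * t * c⁻¹ = t * d := by rw [hddef, ← mul_assoc, ht2, one_mul]
    rcases inter_vec hs hd hd' with r | r
    · exact ⟨c, hc, hce.symm ▸ eq_or_of_plane_zero hd r⟩
    · refine ⟨q * c, ((acts_mem hq).mul hc).congr fun v => by rw [act6_append]; rfl, ?_⟩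
      have htq := D.conj_mem htA.1 hq
      have he : q * c * t * (q * c)⁻¹ = t * ((t * q * t⁻¹) * d * q⁻¹) := by
        rw [show q * c * t * (q * c)⁻¹ = q * (c * t * c⁻¹) * q⁻¹ by group, hce,
          inv_eq_of_mul_eq_one_right ht2]
        simp only [mul_assoc]
        rw [← mul_assoc t t, ht2, one_mul]
      rw [he]
      refine eq_or_of_plane_zero (mul_mem (mul_mem htq hd) (inv_mem hq)) ?_
      rw [D.vec_mul (mul_mem htq hd) (inv_mem hq), D.vec_mul htq hd, D.vec_inv hq, htA.2 q hq, hqv, r]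
      decide +kernel
  obtain ⟨k, hk, hkt⟩ := hk
  have comm : ∀ u ∈ plane, u ≠ 0 → ∀ a ∈ D.X, D.vec a = u → Commute t a := by
    intro u hu hu0 a ha hav
    have hta := D.conj_mem htA.1 ha
    rcases D.eq_or ha hta (by rw [htA.2 a ha, hav, (small_facts.2.2.2.2.2.2.2.2.2.2.2 u hu).1]) with r | r
    · exact mul_inv_eq_iff_eq_mul.1 r
    · exfalso
      refine no_inverted htA.1 hk hkt ⟨ha, ?_⟩ (hav.symm ▸ hu) (hav.symm ▸ hu0)
      rw [r]
      refine (inv_eq_of_mul_eq_one_right ?_).symm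
      rw [← mul_assoc, D.sq_z ha (by rw [hav]; exact (small_facts.2.2.2.1 u hu hu0).1), D.zz]
  obtain ⟨a, ha, hav⟩ := D.vec_surj 16
  obtain ⟨b, hb, hbv⟩ := D.vec_surj 32
  exact ⟨a, ha, b, hb, comm 16 (by simp) (by decide) a ha hav, comm 32 (by simp) (by decide) b hb hbv,
    D.not_comm_of ha hb (by rw [hav, hbv]; decide +kernel)⟩

end SData

end Cfsg.Agent.Lib.SuzType57
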