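import Cfsg.Agent.Lib.SuzType57.Basic
import Cfsg.Agent.Lib.SuzType57.Facts2

/-!
# Involutions over a class of involutions of the orthogonal group
-/

set_option autoImplicit false
set_option linter.unusedSectionVars false

namespace Cfsg.Agent.Lib.SuzType57

namespace SData

variable {G : Type*} [Group G] (D : SData G)

/-- `y` lies in the extraspecial subgroup and is inverted by `t`. -/
def Inverted (t y : G) : Prop := y ∈ D.X ∧ t * y * t⁻¹ = y⁻¹

variable {D}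

theorem invol_inverted {t y : G} (ht : t * t = 1) (hty : t * y * (t * y) = 1) :
    t * y * t⁻¹ = y⁻¹ := by
  rw [inv_eq_of_mul_eq_one_right ht]
  refine eq_inv_of_mul_eq_one_left ?_
  rw [← hty]; group

theorem no_triple {t y₁ y₂ y₃ : G} (htz : Commute t D.z) (h₁ : D.Inverted t y₁) (h₂ : D.Inverted t y₂)
    (h₃ : D.Inverted t y₃) (e : D.vec y₃ = xr (D.vec y₁) (D.vec y₂))
    (hb : b6 (D.vec y₁) (D.vec y₂) = true) : False := by
  have hz : t * D.z * t⁻¹ = D.z := by rw [htz.eq]; group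
  have hprod : t * (y₁ * y₂) * t⁻¹ = (y₁ * y₂)⁻¹ := by
    rcases D.eq_or h₃.1 (mul_mem h₁.1 h₂.1) (by rw [e, D.vec_mul h₁.1 h₂.1]) with r | r <;> rw [r]
    · exact h₃.2
    · rw [show t * (y₃ * D.z) * t⁻¹ = t * y₃ * t⁻¹ * (t * D.z * t⁻¹) by group, h₃.2, hz,
        mul_inv_rev, D.z_inv]
      exact (D.X_comm (inv_mem h₃.1)).eq
  rw [show t * (y₁ * y₂) * t⁻¹ = t * y₁ * t⁻¹ * (t * y₂ * t⁻¹) by group, h₁.2, h₂.2] at hprod
  refine D.not_comm_of h₁.1 h₂.1 hb ?_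
  have := congrArg (·⁻¹) hprod
  show y₁ * y₂ = y₂ * y₁
  simpa using this.symm

/-- The facts about a representative. -/
theorem rep_facts {h : List W} (hh : h ∈ ([wordA, wordC] : List (List W))) :
    EvenWord h ∧ (∀ v, act6 h (act6 h v) = v) ∧
    (∀ v, act6 wordX (act6 h v) = act6 h (act6 wordX v)) ∧
    (∀ u ∈ plane, act6 h u = u) ∧
    ∀ v, act6 h v = v → ∃ u ∈ plane, ∃ p : W, v = xr u (xr (act6 h p) p) := by
  rcases List.mem_pair.1 hh with rfl | rfl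
  · exact ⟨wordA_spec.1, wordA_spec.2.2.2, wordX_spec.2.2.1,
      fun u hu => (small_facts.2.2.2.2.2.2.2.2.2.2.2 u hu).1, fix_A⟩
  · exact ⟨wordC_spec.1, wordC_spec.2.2.2, wordX_spec.2.2.2,
      fun u hu => (small_facts.2.2.2.2.2.2.2.2.2.2.2 u hu).2, fix_C⟩

theorem Acts.inverted_vec {t y : G} {h : List W} (ht : D.Acts t h) (hy : D.Inverted t y) :
    act6 h (D.vec y) = D.vec y := by
  rw [← ht.2 y hy.1, hy.2, D.vec_inv hy.1]

variable [Finite G]

theorem reduce {h : List W} (hh : h ∈ ([wordA, wordC] : List (List W))) {t t' : G}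
    (ht : D.Acts t h) (ht2 : t * t = 1) (ht' : D.Acts t' h) (ht2' : t' * t' = 1) :
    ∃ q ∈ D.X, ∃ y, D.Inverted t y ∧ D.vec y ∈ plane ∧ q * t' * q⁻¹ = t * y := by
  obtain ⟨-, hinv, -, -, hfix⟩ := rep_facts hh
  have hy : t * t' ∈ D.X := (ht.mul ht').mem_of_trivial fun v => by rw [act6_append, hinv]
  set y₀ := t * t' with hy₀
  have hty : t * y₀ = t' := by rw [hy₀, ← mul_assoc, ht2, one_mul]
  have hi : D.Inverted t y₀ := ⟨hy, invol_inverted ht2 (by rw [hty, ht2'])⟩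
  obtain ⟨u, hu, p, e⟩ := hfix _ (ht.inverted_vec hi)
  obtain ⟨q, hq, hqp⟩ := D.vec_surj p
  have hm : t * q * t⁻¹ ∈ D.X := D.conj_mem ht.1 hq
  have he : q * t' * q⁻¹ = t * ((t * q * t⁻¹) * y₀ * q⁻¹) := by
    rw [← hty, inv_eq_of_mul_eq_one_right ht2]
    simp only [mul_assoc]
    rw [← mul_assoc t t, ht2, one_mul]
  refine ⟨q, hq, (t * q * t⁻¹) * y₀ * q⁻¹, ⟨mul_mem (mul_mem hm hy) (inv_mem hq),
    invol_inverted ht2 ?_⟩, ?_, he⟩
  · rw [← he, conj_mul, ht2', mul_one, mul_inv_cancel]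
  · rw [D.vec_mul (mul_mem hm hy) (inv_mem hq), D.vec_mul hm hy, D.vec_inv hq, ht.2 q hq, hqp, e]
    rw [show xr (xr (act6 h p) (xr u (xr (act6 h p) p))) p = u by
      rw [xr_assoc, xr_assoc u, xr_assoc (act6 h p) p, xr_self, xr_zero, xr_comm u, xr_cancel]]
    exact hu

theorem eq_or_of_plane_zero {y t : G} (hy : y ∈ D.X) (h0 : D.vec y = 0) :
    t * y = t ∨ t * y = t * D.z := by
  rcases (D.vec_eq_zero hy).1 h0 with rfl | rfl
  · exact Or.inl (mul_one t)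
  · exact Or.inr rfl

theorem no_inverted {t k y : G} (htz : Commute t D.z)
    (hk : D.Acts k wordX) (hkt : k * t * k⁻¹ = t ∨ k * t * k⁻¹ = t * D.z)
    (hy : D.Inverted t y) (hu : D.vec y ∈ plane) (hu0 : D.vec y ≠ 0) : False := by
  have hconj : ∀ a, a ∈ D.X → (k * t * k⁻¹) * a * (k * t * k⁻¹)⁻¹ = t * a * t⁻¹ := by
    intro a ha
    rcases hkt with r | r <;> rw [r]
    rw [mul_inv_rev, D.z_inv, show t * D.z * a * (D.z * t⁻¹) = t * (D.z * a) * D.z * t⁻¹ by group,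
      ← (D.X_comm ha).eq, show t * (a * D.z) * D.z * t⁻¹ = t * a * (D.z * D.z) * t⁻¹ by group,
      D.zz, mul_one]
  have hstep : ∀ {a}, D.Inverted t a → D.Inverted t (k * a * k⁻¹) := by
    intro a ha
    have hm := D.conj_mem hk.1 ha.1
    refine ⟨hm, ?_⟩
    rw [← hconj _ hm, show k * t * k⁻¹ * (k * a * k⁻¹) * (k * t * k⁻¹)⁻¹ =
      k * (t * a * t⁻¹) * k⁻¹ by group, ha.2]
    group
  obtain ⟨-, -, hb, e, -, -⟩ := planeX _ hu hu0
  have v2 : D.vec (k * y * k⁻¹) = act6 wordX (D.vec y) := hk.2 y hy.1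
  refine no_triple htz hy (hstep hy) (hstep (hstep hy)) ?_ (by rw [v2]; exact hb)
  rw [hk.2 _ (hstep hy).1, v2, e]

/-- All involutions over one representative. -/
theorem cconj_over {h : List W} (hh : h ∈ ([wordA, wordC] : List (List W))) {t t' : G}
    (ht : D.Acts t h) (ht2 : t * t = 1) (ht' : D.Acts t' h) (ht2' : t' * t' = 1) :
    D.CConj t' t ∨ D.CConj t' (t * D.z) := by
  obtain ⟨heven, -, hX, hplane, -⟩ := rep_facts hh
  obtain ⟨q, hq, y, hy, hu, he⟩ := reduce hh ht ht2 ht' ht2'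
  have hqc : D.CConj t' (t * y) := ⟨q, D.X_comm hq, he⟩
  rcases eq_or_ne (D.vec y) 0 with h0 | hu0
  · rcases eq_or_of_plane_zero (t := t) hy.1 h0 with r | r <;> rw [r] at hqc
    exacts [Or.inl hqc, Or.inr hqc]
  obtain ⟨c, hc⟩ := D.exists_lift wordX_spec.1
  have hct2 : (c * t * c⁻¹) * (c * t * c⁻¹) = 1 := by rw [conj_mul, ht2, mul_one, mul_inv_cancel]
  obtain ⟨p, hp, y₀, hy₀, hu₀, he₀⟩ := reduce hh ht ht2 (hc.conj ht fun v => hX v) hct2
  have hk : D.Acts (p * c) wordX :=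
    ((acts_mem hp).mul hc).congr fun v => by rw [act6_append]; rfl
  have hkt : (p * c) * t * (p * c)⁻¹ = t * y₀ := by rw [← he₀]; group
  rcases eq_or_ne (D.vec y₀) 0 with h0 | hu00
  · exfalso
    refine no_inverted ht.1 hk ?_ hy hu hu0
    rw [hkt]
    exact eq_or_of_plane_zero hy₀.1 h0
  set k := p * c with hkdef
  have hm₁ : k * y₀ * k⁻¹ ∈ D.X := D.conj_mem hk.1 hy₀.1
  have hc1 : D.CConj t (t * y₀) := ⟨k, hk.1, hkt⟩
  have hc2e : k * (t * y₀) * k⁻¹ = t * (y₀ * (k * y₀ * k⁻¹)) := by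
    rw [show k * (t * y₀) * k⁻¹ = k * t * k⁻¹ * (k * y₀ * k⁻¹) by group, hkt]; group
  have hc2 : D.CConj t (t * (y₀ * (k * y₀ * k⁻¹))) := hc1.trans ⟨k, hk.1, hc2e⟩
  obtain ⟨d, hdz, hd⟩ := hc2
  have hi2 : D.Inverted t (y₀ * (k * y₀ * k⁻¹)) :=
    ⟨mul_mem hy₀.1 hm₁, invol_inverted ht2 (by rw [← hd, conj_mul, ht2, mul_one, mul_inv_cancel])⟩
  have hv2 : D.vec (y₀ * (k * y₀ * k⁻¹)) = xr (D.vec y₀) (act6 wordX (D.vec y₀)) := by
    rw [D.vec_mul hy₀.1 hm₁, hk.2 y₀ hy₀.1]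
  obtain ⟨-, hx0, -, -, hx1, hx2⟩ := planeX _ hu₀ hu00
  have hne : D.vec y₀ ≠ xr (D.vec y₀) (act6 wordX (D.vec y₀)) := fun e =>
    hx0 (by rw [← xr_cancel (D.vec y₀) (act6 wordX (D.vec y₀)), ← e, xr_self])
  have fin : ∀ {a}, a ∈ D.X → D.vec a = D.vec y → D.CConj t (t * a) →
      D.CConj t' t ∨ D.CConj t' (t * D.z) := by
    intro a ha e hca
    rcases D.eq_or ha hy.1 e with r | r <;> rw [r] at hqc
    · exact Or.inl (hqc.trans hca.symm)
    · rw [← mul_assoc] at hqc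
      exact Or.inr (hqc.trans (CConj.mul_z hca.symm))
  rcases plane_triple _ hu _ hu₀ _ hx2 hu0 hu00 hx1 hne with r | r | ⟨r, hb⟩
  · exact fin hy₀.1 r.symm hc1
  · exact fin hi2.1 (hv2.trans r.symm) ⟨d, hdz, hd⟩
  · exact (no_triple ht.1 hy₀ hi2 hy (by rw [r, hv2]) (by rw [hv2]; exact hb)).elim

/-- An element over the non-singular vector is inverted. -/
theorem conj_m {t M : G} (ht : D.Acts t wordC) (ht2 : t * t = 1) (hM : M ∈ D.X)
    (hv : D.vec M = 12) : t * M * t⁻¹ = M * D.z := by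
  obtain ⟨q, hq, hqv⟩ := D.vec_surj 6
  have htq := D.conj_mem ht.1 hq
  set M' := q⁻¹ * (t * q * t⁻¹) with hM'
  have hM'X : M' ∈ D.X := mul_mem (inv_mem hq) htq
  have hv' : D.vec M' = 12 := by
    rw [D.vec_mul (inv_mem hq) htq, D.vec_inv hq, ht.2 q hq, hqv, xr_comm,
      small_facts.2.2.2.2.2.2.1]
  have hsq : M' * M' = D.z := D.sq_z hM'X (by rw [hv']; exact small_facts.2.2.1)
  have htt : t⁻¹ = t := inv_eq_of_mul_eq_one_right ht2
  have key : t * M' * t⁻¹ = M' * D.z := by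
    have h1 : t * M' * t⁻¹ = M'⁻¹ := by
      rw [hM', htt]
      simp only [mul_inv_rev, inv_inv, mul_assoc, htt]
      simp only [ht2, mul_one]
    rw [h1]
    exact inv_eq_of_mul_eq_one_right (by rw [← mul_assoc, hsq, D.zz])
  rcases D.eq_or hM'X hM (hv'.trans hv.symm) with r | r <;> rw [r]
  · exact key
  · rw [show t * (M' * D.z) * t⁻¹ = t * M' * t⁻¹ * (t * D.z * t⁻¹) by group, key,
      show t * D.z * t⁻¹ = D.z by rw [ht.1.eq]; group]

/-- Over `wordC` the two classes fuse. -/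
theorem cconj_mul_z {t : G} (ht : D.Acts t wordC) (ht2 : t * t = 1) : D.CConj (t * D.z) t := by
  obtain ⟨M, hM, hv⟩ := D.vec_surj 12
  refine ⟨M⁻¹, (D.X_comm hM).inv_left, ?_⟩
  have e := conj_m ht ht2 hM hv
  rw [inv_eq_of_mul_eq_one_right ht2] at e
  have hz : D.z * M = M * D.z := ((D.X_comm hM).eq).symm
  rw [inv_inv, show M⁻¹ * (t * D.z) * M = M⁻¹ * (t * (D.z * M)) by group, hz,
    show M⁻¹ * (t * (M * D.z)) = M⁻¹ * (t * M * (t * t⁻¹)) * D.z by group,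
    inv_eq_of_mul_eq_one_right ht2, show M⁻¹ * (t * M * (t * t)) * D.z = M⁻¹ * (t * M * t) * t * D.z by group,
    e]
  rw [show M⁻¹ * (M * D.z) * t * D.z = D.z * (t * D.z) by group, ht.1.eq, ← mul_assoc, D.zz, one_mul]

end SData

end Cfsg.Agent.Lib.SuzType57
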