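import Cfsg.Agent.Lib.SuzType57.Fusion

/-!
# The two classes of involutions
-/

set_option autoImplicit false
set_option linter.unusedSectionVars false

namespace Cfsg.Agent.Lib.SuzType57

namespace SData

variable {G : Type*} [Group G] [Finite G] {D : SData G} {s : G} (hs : D.IsBase s)

include hs

theorem exists_rad_C : ∃ u ∈ D.core s, D.Acts u wordC ∧ u * u = s := by
  obtain ⟨t, ht, ht2, htA⟩ := exists_ta hs
  obtain ⟨g, hg, hge, hg1, hgi⟩ := wordF_spec.2.2.2
  obtain ⟨c, hc, hcs⟩ := exists_fix_lift hs hge hg1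
  have hext : ∀ v, act6 g.reverse (act6 wordA v) = act6 wordF (act6 g.reverse v) := by
    intro v
    have h : ∀ w, act6 g (act6 wordF w) = act6 wordA (act6 g w) := fun w => by
      rw [← act6_append, ← act6_append]
      exact act6_ext (evenWord_append hge wordF_spec.1) (evenWord_append wordA_spec.1 hge)
        (fun i hi => by rw [act6_append, act6_append]; exact hgi i hi) w
    conv_lhs => rw [← act6_reverse g v, ← h, act6_reverse']
  have htf : D.Acts (c⁻¹ * t * c⁻¹⁻¹) wordF := hc.inv.conj htA hext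
  have hu : D.Acts (t * (c⁻¹ * t * c⁻¹⁻¹)) wordC :=
    (htA.mul htf).congr fun v => by rw [act6_append, wordF_spec.2.2.1]
  have hm : t * (c⁻¹ * t * c⁻¹⁻¹) ∈ D.core s := mul_mem ht (base_conj_mem hs hcs.inv_left ht)
  exact ⟨_, hm, hu, ((good_base hs).sq_cases hm).resolve_left fun e => not_C hs hm e hu⟩

theorem exists_b : ∃ b, D.Acts b wordC ∧ b * b = 1 ∧ Commute b s := by
  obtain ⟨u, hu, huC, hu2⟩ := exists_rad_C hs
  let w : G → G := fun a => a⁻¹ * (u⁻¹ * a * u)
  have hfix : ∀ {a}, a ∈ D.X → D.vec (u⁻¹ * a * u) = act6 wordC (D.vec a) := by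
    intro a ha
    have := huC.inv.2 a ha
    rw [inv_inv] at this
    rw [this]
    refine act6_ext (evenWord_reverse wordC_spec.1) wordC_spec.1 ?_ _
    decide +kernel
  have hw : ∀ {a}, a ∈ D.X → b6 1 (D.vec a) = false →
      w a ∈ D.X ∧ w a ∈ D.core s ∧ D.vec (w a) = xr (D.vec a) (act6 wordC (D.vec a)) := by
    intro a ha h
    obtain ⟨h1, h2⟩ := twist hs (inv_mem hu) huC.1.inv_left ha h
    rw [inv_inv] at h1 h2
    refine ⟨h1, h2, ?_⟩
    have hm : u⁻¹ * a * u ∈ D.X := by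
      have := D.conj_mem huC.1.inv_left ha
      rwa [inv_inv] at this
    show D.vec (a⁻¹ * (u⁻¹ * a * u)) = _
    rw [D.vec_mul (inv_mem ha) hm, D.vec_inv ha, hfix ha]
  have good_of : ∀ {a}, a ∈ D.X → b6 1 (D.vec a) = false → s * (w a * (a * a)) = 1 →
      ∃ b, D.Acts b wordC ∧ b * b = 1 ∧ Commute b s := by
    intro a ha h e
    obtain ⟨h1, h2, -⟩ := hw ha h
    refine ⟨u * a, (huC.mul (acts_mem ha)).congr fun v => by rw [act6_append]; rfl, ?_,
      (show Commute u s from (good_base hs).le_cent u hu).mul_left (base_comm hs ha h).symm⟩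
    calc u * a * (u * a) = (u * u) * (a * w a) * a := by simp only [w]; group
      _ = s * (w a * a) * a := by rw [hu2, ← (inter_comm hs h1 h2 ha h).eq]
      _ = 1 := by rw [mul_assoc s, mul_assoc (w a)]; exact e
  have hmul : ∀ {a b}, a ∈ D.X → b ∈ D.X → b6 1 (D.vec a) = false → b6 1 (D.vec b) = false →
      w (a * b) = w a * w b := by
    intro a b ha hb h h'
    obtain ⟨h1, h2, -⟩ := hw ha h
    calc w (a * b) = b⁻¹ * w a * (b * w b) := by simp only [w]; group
      _ = w a * b⁻¹ * (b * w b) := by rw [(inter_comm hs h1 h2 hb h').inv_right.eq]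
      _ = w a * w b := by group
  obtain ⟨E, hE, hEv⟩ := D.vec_surj 4
  obtain ⟨P, hP, hPv⟩ := D.vec_surj 16
  obtain ⟨R, hR, hRv⟩ := D.vec_surj 32
  have hE1 : b6 1 (D.vec E) = false := by rw [hEv]; decide +kernel
  have hP1 : b6 1 (D.vec P) = false := by rw [hPv]; decide +kernel
  have hR1 : b6 1 (D.vec R) = false := by rw [hRv]; decide +kernel
  obtain ⟨he, -, hev⟩ := hw hE hE1
  rw [hEv, show xr 4 (act6 wordC 4) = 1 from by decide +kernel] at hev
  have hEE : E * E = 1 := D.sq_one hE (by rw [hEv]; decide +kernel)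
  have hss : s * s = 1 := base_sq hs
  rcases D.eq_or hs.1 he (hs.2.trans hev.symm) with hwE | hwE
  · exact good_of hE hE1 (by rw [hwE, hEE, mul_one, hss])
  have hwG : ∀ {a}, a ∈ D.X → b6 1 (D.vec a) = false → xr (D.vec a) (act6 wordC (D.vec a)) = 0 →
      w a = 1 ∨ w a = D.z := by
    intro a ha h h0
    obtain ⟨h1, -, h3⟩ := hw ha h
    exact (D.vec_eq_zero h1).1 (h3.trans h0)
  have mk : ∀ {a}, a ∈ D.X → b6 1 (D.vec a) = false → Commute E a → a * a = D.z → w a = 1 →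
      ∃ b, D.Acts b wordC ∧ b * b = 1 ∧ Commute b s := by
    intro a ha h hc hsq hwa
    refine good_of (mul_mem hE ha) ?_ ?_
    · rw [D.vec_mul hE ha]
      show bf QT 1 _ = false
      rw [frameT.badd]
      show xor (b6 1 (D.vec E)) (b6 1 (D.vec a)) = false
      rw [hE1, h]; rfl
    · rw [hmul hE ha hE1 h, hwE, hwa, mul_one,
        show E * a * (E * a) = E * (a * E) * a by group, ← hc.eq,
        show E * (E * a) * a = (E * E) * (a * a) by group, hEE, hsq, one_mul]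
      rw [show s * (s * D.z * D.z) = (s * s) * (D.z * D.z) by group, hss, D.zz, one_mul]
  have hEP : Commute E P := D.comm_of hE hP (by rw [hEv, hPv]; decide +kernel)
  have hER : Commute E R := D.comm_of hE hR (by rw [hEv, hRv]; decide +kernel)
  rcases hwG hP hP1 (by rw [hPv]; decide +kernel) with hwP | hwP
  · exact mk hP hP1 hEP (D.sq_z hP (by rw [hPv]; decide +kernel)) hwP
  rcases hwG hR hR1 (by rw [hRv]; decide +kernel) with hwR | hwR
  · exact mk hR hR1 hER (D.sq_z hR (by rw [hRv]; decide +kernel)) hwR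
  refine mk (mul_mem hP hR) (by rw [D.vec_mul hP hR, hPv, hRv]; decide +kernel) (hEP.mul_right hER)
    (D.sq_z (mul_mem hP hR) (by rw [D.vec_mul hP hR, hPv, hRv]; decide +kernel)) ?_
  rw [hmul hP hR hP1 hR1, hwP, hwR, D.zz]

omit hs in
/-- Generators of the centralizer over the non-singular element. -/
theorem gens_C {b : G} (hb : D.Acts b wordC) (hb2 : b * b = 1) :
    ∃ e ∈ ([0, 12] : List W), ∃ f ∈ ([0, 12] : List W), ∃ x ∈ D.X, ∃ y ∈ D.X,
      D.vec x = xr 16 e ∧ D.vec y = xr 32 f ∧ Commute b x ∧ Commute b y ∧ ¬ Commute x y := by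
  obtain ⟨M, hM, hMv⟩ := D.vec_surj 12
  have hbM := conj_m hb hb2 hM hMv
  have fix : ∀ u ∈ plane, ∀ a ∈ D.X, D.vec a = u →
      ∃ e ∈ ([0, 12] : List W), ∃ x ∈ D.X, D.vec x = xr u e ∧ Commute b x := by
    intro u hu a ha hav
    have hba := D.conj_mem hb.1 ha
    rcases D.eq_or ha hba (by rw [hb.2 a ha, hav, (small_facts.2.2.2.2.2.2.2.2.2.2.2 u hu).2]) with r | r
    · exact ⟨0, by simp, a, ha, by rw [hav, xr_zero], mul_inv_eq_iff_eq_mul.1 r⟩
    · refine ⟨12, by simp, a * M, mul_mem ha hM, by rw [D.vec_mul ha hM, hav, hMv],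
        mul_inv_eq_iff_eq_mul.1 ?_⟩
      rw [show b * (a * M) * b⁻¹ = b * a * b⁻¹ * (b * M * b⁻¹) by group, r, hbM,
        show a * D.z * (M * D.z) = a * (D.z * M) * D.z by group, ← (D.X_comm hM).eq,
        show a * (M * D.z) * D.z = a * M * (D.z * D.z) by group, D.zz, mul_one]
  obtain ⟨a, ha, hav⟩ := D.vec_surj 16
  obtain ⟨a', ha', hav'⟩ := D.vec_surj 32
  obtain ⟨e, he, x, hx, hxv, hxc⟩ := fix 16 (by simp) a ha hav
  obtain ⟨f, hf, y, hy, hyv, hyc⟩ := fix 32 (by simp) a' ha' hav'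
  exact ⟨e, he, f, hf, x, hx, y, hy, hxv, hyv, hxc, hyc,
    D.not_comm_of hx hy (by rw [hxv, hyv]; exact (centK_fix e he f hf).1)⟩

/-- The form of an involution of the centralizer. -/
theorem classify {t : G} (htz : Commute t D.z) (ht2 : t * t = 1) :
    t ∈ D.X ∨ ∃ h ∈ ([wordA, wordC] : List (List W)),
      ∃ t', D.Acts t' h ∧ t' * t' = 1 ∧ D.CConj t t' := by
  classical
  obtain ⟨l, hle, hl⟩ := D.exists_word htz
  by_cases htX : t ∈ D.X
  · exact Or.inl htX
  right
  have hinv : ∀ v, act6 l (act6 l v) = v := by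
    intro v
    rw [← act6_append, (hl.mul hl).eq_of (ht2.symm ▸ acts_mem (one_mem _)) v]
    rfl
  let P := {v : W // v ≠ 0 ∧ q6 v = false}
  have hl0 : act6 l 0 = 0 := by
    have := act6_xr hle 0 0
    rwa [xr_self, xr_self] at this
  have hPl : ∀ v : P, act6 l v.1 ≠ 0 ∧ q6 (act6 l v.1) = false := by
    intro v
    refine ⟨fun e => v.2.1 (by rw [← hinv v.1, e, hl0]), ?_⟩
    show qf QT (ap QT l v.1) = false
    rw [← perm_apply frameT, (perm_mem frameT hle.1).2]
    exact v.2.2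
  let σ : Equiv.Perm P := Function.Involutive.toPerm (fun v => ⟨act6 l v.1, hPl v⟩)
    (fun v => Subtype.ext (hinv v.1))
  haveI : Fact (Nat.Prime 2) := ⟨Nat.prime_two⟩
  obtain ⟨⟨v, hv0, hvq⟩, hfix⟩ := Equiv.Perm.exists_fixed_point_of_prime (p := 2) (n := 1) (σ := σ)
    (by rw [show Fintype.card P = 27 from rfl]; decide)
    (Equiv.ext fun v => Subtype.ext (by rw [pow_one, pow_two]; exact hinv v.1))
  have hlv : act6 l v = v := congrArg Subtype.val hfix
  obtain ⟨w, hw, hwv⟩ := toOne_spec.2 v hv0 hvq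
  obtain ⟨c, hc⟩ := D.exists_lift (toOne_spec.1 w hw)
  have hl' : D.Acts (c * t * c⁻¹) (w ++ l ++ w.reverse) := (hc.mul hl).mul hc.inv
  have h1 : act6 (w ++ l ++ w.reverse) 1 = 1 := by
    rw [act6_append, act6_append, ← hwv, act6_reverse', hlv]
  obtain ⟨m, hm, hmv⟩ := D.word_one hl'.1 hl'.2 h1
  have hmA : D.Acts (c * t * c⁻¹) m := ⟨hl'.1, hmv⟩
  have hsq : c * t * c⁻¹ * (c * t * c⁻¹) = 1 := by rw [conj_mul, ht2, mul_one, mul_inv_cancel]
  have hne : ¬ ∀ i < 6, act6 m (bv i) = bv i := by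
    intro h
    have hmem := hmA.mem_of_trivial (act6_ext (stab_spec hm) evenWord_nil h)
    refine htX ?_
    have := D.conj_mem hc.1.inv_left hmem
    simpa [mul_assoc] using this
  obtain ⟨g, hg, hge, hgc⟩ := inv_classes m hm (fun i _ => by
    rw [← act6_append, (hmA.mul hmA).eq_of (hsq.symm ▸ acts_mem (one_mem _)) (bv i)]
    rfl) hne
  obtain ⟨d, hd⟩ := D.exists_lift hge
  have hsq' : d * (c * t * c⁻¹) * d⁻¹ * (d * (c * t * c⁻¹) * d⁻¹) = 1 := by
    rw [conj_mul, hsq, mul_one, mul_inv_cancel]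
  have hcc : D.CConj t (d * (c * t * c⁻¹) * d⁻¹) := ⟨d * c, hd.1.mul_left hc.1, by group⟩
  have hext : ∀ {r : List W}, EvenWord r →
      (∀ i < 6, act6 g (act6 m (bv i)) = act6 r (act6 g (bv i))) →
      ∀ v, act6 g (act6 m v) = act6 r (act6 g v) := by
    intro r hr h v
    rw [← act6_append, ← act6_append]
    exact act6_ext (evenWord_append hge (stab_spec hm)) (evenWord_append hr hge)
      (fun i hi => by rw [act6_append, act6_append]; exact h i hi) v
  rcases hgc with h | h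
  · exact ⟨wordA, by simp, _, hd.conj hmA (hext wordA_spec.1 h), hsq', hcc⟩
  · exact ⟨wordC, by simp, _, hd.conj hmA (hext wordC_spec.1 h), hsq', hcc⟩

/-- Two non-commuting elements of the extraspecial subgroup centralize a given involution. -/
theorem exists_pair {t : G} (htz : Commute t D.z) (ht2 : t * t = 1) :
    ∃ a ∈ D.X, ∃ b ∈ D.X, Commute t a ∧ Commute t b ∧ ¬ Commute a b := by
  rcases classify hs htz ht2 with htX | ⟨h, hh, t', ht', ht'2, hcc⟩
  · rcases eq_or_ne (D.vec t) 0 with h0 | h0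
    · obtain ⟨a, ha, hav⟩ := D.vec_surj 16
      obtain ⟨b, hb, hbv⟩ := D.vec_surj 32
      have hc : ∀ {a}, a ∈ D.X → Commute t a := by
        intro a ha
        refine D.comm_of htX ha ?_
        rw [h0]
        generalize D.vec a = v
        revert v; decide +kernel
      exact ⟨a, ha, b, hb, hc ha, hc hb, D.not_comm_of ha hb (by rw [hav, hbv]; decide +kernel)⟩
    · obtain ⟨v₁, v₂, -, -, hb1, hb2, hb⟩ := perp_pair _ h0 ((D.vec_sq htX).2 ht2)
      obtain ⟨a, ha, rfl⟩ := D.vec_surj v₁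
      obtain ⟨b, hb', rfl⟩ := D.vec_surj v₂
      exact ⟨a, ha, b, hb', D.comm_of htX ha hb1, D.comm_of htX hb' hb2, D.not_comm_of ha hb' hb⟩
  · have key : ∃ a ∈ D.X, ∃ b ∈ D.X, Commute t' a ∧ Commute t' b ∧ ¬ Commute a b := by
      rcases List.mem_pair.1 hh with rfl | rfl
      · obtain ⟨ta, htA, hta2, a, ha, b, hb, hca, hcb, hab⟩ := nonab_A hs
        obtain ⟨r, hr⟩ : ∃ r, (r = ta ∨ r = ta * D.z) ∧ D.CConj t' r := by
          rcases cconj_over (by simp) htA hta2 ht' ht'2 with r | r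
          exacts [⟨ta, Or.inl rfl, r⟩, ⟨_, Or.inr rfl, r⟩]
        obtain ⟨hr, c, hc, rfl⟩ := hr
        have hra : Commute (c * t' * c⁻¹) a ∧ Commute (c * t' * c⁻¹) b := by
          rcases hr with e | e <;> rw [e]
          exacts [⟨hca, hcb⟩, ⟨hca.mul_left (D.X_comm ha).symm, hcb.mul_left (D.X_comm hb).symm⟩]
        have back : ∀ {a}, a ∈ D.X → Commute (c * t' * c⁻¹) a →
            c⁻¹ * a * c ∈ D.X ∧ Commute t' (c⁻¹ * a * c) := by
          intro a ha h
          refine ⟨by simpa using D.conj_mem hc.inv_left ha, ?_⟩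
          show t' * (c⁻¹ * a * c) = c⁻¹ * a * c * t'
          calc t' * (c⁻¹ * a * c) = c⁻¹ * (c * t' * c⁻¹ * a) * c := by group
            _ = c⁻¹ * (a * (c * t' * c⁻¹)) * c := by rw [h.eq]
            _ = _ := by group
        obtain ⟨h1, h2⟩ := back ha hra.1
        obtain ⟨h3, h4⟩ := back hb hra.2
        refine ⟨_, h1, _, h3, h2, h4, fun h => hab ?_⟩
        show a * b = b * a
        calc a * b = c * (c⁻¹ * a * c * (c⁻¹ * b * c)) * c⁻¹ := by group
          _ = c * (c⁻¹ * b * c * (c⁻¹ * a * c)) * c⁻¹ := by rw [h.eq]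
          _ = _ := by group
      · obtain ⟨e, -, f, -, x, hx, y, hy, -, -, hcx, hcy, hxy⟩ := gens_C ht' ht'2
        exact ⟨x, hx, y, hy, hcx, hcy, hxy⟩
    obtain ⟨a, ha, b, hb, hca, hcb, hab⟩ := key
    obtain ⟨c, hc, rfl⟩ := hcc
    have back : ∀ {a}, a ∈ D.X → Commute (c * t * c⁻¹) a →
        c⁻¹ * a * c ∈ D.X ∧ Commute t (c⁻¹ * a * c) := by
      intro a ha h
      refine ⟨by simpa using D.conj_mem hc.inv_left ha, ?_⟩
      show t * (c⁻¹ * a * c) = c⁻¹ * a * c * t
      calc t * (c⁻¹ * a * c) = c⁻¹ * (c * t * c⁻¹ * a) * c := by group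
        _ = c⁻¹ * (a * (c * t * c⁻¹)) * c := by rw [h.eq]
        _ = _ := by group
    obtain ⟨h1, h2⟩ := back ha hca
    obtain ⟨h3, h4⟩ := back hb hcb
    refine ⟨_, h1, _, h3, h2, h4, fun h => hab ?_⟩
    show a * b = b * a
    calc a * b = c * (c⁻¹ * a * c * (c⁻¹ * b * c)) * c⁻¹ := by group
      _ = c * (c⁻¹ * b * c * (c⁻¹ * a * c)) * c⁻¹ := by rw [h.eq]
      _ = _ := by group

/-- An involution over the non-singular element is not conjugate to `z`. -/
theorem not_conj {b : G} (hb : D.Acts b wordC) (hb2 : b * b = 1) (hbs : Commute b s) :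
    ¬ IsConj b D.z := by
  intro hconj
  obtain ⟨g, hg⟩ := isConj_iff.1 hconj
  have hbg : g⁻¹ * D.z * g = b := by rw [← hg]; group
  have hbne : b ≠ D.z := fun e => by
    have := hb.eq_of (e.symm ▸ acts_mem D.z_mem) 2
    revert this; decide +kernel
  have hwz : Commute (g * D.z * g⁻¹) D.z := by
    have key : g * D.z * g⁻¹ * (g * b * g⁻¹) = g * b * g⁻¹ * (g * D.z * g⁻¹) := by
      calc g * D.z * g⁻¹ * (g * b * g⁻¹) = g * (D.z * b) * g⁻¹ := by group
        _ = g * (b * D.z) * g⁻¹ := by rw [hb.1.eq]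
        _ = _ := by group
    rw [hg] at key
    exact key
  obtain ⟨a₁, ha₁, a₂, ha₂, hc₁, hc₂, hne⟩ := exists_pair hs hwz
    (by rw [conj_mul, D.zz, mul_one, mul_inv_cancel])
  set j₁ := g⁻¹ * a₁ * g with hj₁
  set j₂ := g⁻¹ * a₂ * g with hj₂
  have hjz : ∀ {a}, Commute (g * D.z * g⁻¹) a → Commute (g⁻¹ * a * g) D.z := by
    intro a h
    show g⁻¹ * a * g * D.z = D.z * (g⁻¹ * a * g)
    calc g⁻¹ * a * g * D.z = g⁻¹ * (a * (g * D.z * g⁻¹)) * g := by group
      _ = g⁻¹ * (g * D.z * g⁻¹ * a) * g := by rw [h.eq]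
      _ = _ := by group
  have hjb : ∀ {a}, a ∈ D.X → Commute (g⁻¹ * a * g) b ∧ g⁻¹ * a * g ∈ D.core b := by
    intro a ha
    have hm : g⁻¹ * a * g ∈ D.core b := by
      rw [← hbg]
      simpa using D.isCore.conj_mem g⁻¹ (show a ∈ D.core D.z from ha)
    exact ⟨D.isCore.le_centralizer hm, hm⟩
  obtain ⟨e, he, f, hf, x, hx, y, hy, hxv, hyv, hxc, hyc, -⟩ := gens_C hb hb2
  obtain ⟨M, hM, hMv⟩ := D.vec_surj 12
  -- vectors of elements centralizing `b`
  have hK : ∀ k ∈ centK e f, ∃ a ∈ D.X, D.vec a = k ∧ Commute b a := by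
    intro k hk
    have h0 : ∃ a ∈ D.X, D.vec a = 0 ∧ Commute b a :=
      ⟨1, one_mem _, D.vec_one, Commute.one_right b⟩
    have h1 : ∃ a ∈ D.X, D.vec a = 1 ∧ Commute b a := ⟨s, hs.1, hs.2, hbs⟩
    have hadd : ∀ {p q : W}, (∃ a ∈ D.X, D.vec a = p ∧ Commute b a) →
        (∃ a ∈ D.X, D.vec a = q ∧ Commute b a) → ∃ a ∈ D.X, D.vec a = xr p q ∧ Commute b a := by
      rintro p q ⟨a, ha, rfl, hca⟩ ⟨c, hc, rfl, hcc⟩
      exact ⟨a * c, mul_mem ha hc, D.vec_mul ha hc, hca.mul_right hcc⟩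
    have hxK : ∃ a ∈ D.X, D.vec a = xr 16 e ∧ Commute b a := ⟨x, hx, hxv, hxc⟩
    have hyK : ∃ a ∈ D.X, D.vec a = xr 32 f ∧ Commute b a := ⟨y, hy, hyv, hyc⟩
    simp only [centK, List.mem_cons, List.not_mem_nil, or_false] at hk
    rcases hk with rfl | rfl | rfl | rfl | rfl | rfl | rfl | rfl
    exacts [h0, h1, hxK, hadd h1 hxK, hyK, hadd h1 hyK, hadd hxK hyK, hadd h1 (hadd hxK hyK)]
  have hK' : ∀ {a}, a ∈ D.X → Commute b a → D.vec a ∈ centK e f := by
    intro a ha hca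
    have hfix : act6 wordC (D.vec a) = D.vec a := by
      rw [← hb.2 a ha, hca.eq, mul_inv_cancel_right]
    refine (centK_cover e he f hf _ hfix).resolve_right fun h12 => ?_
    obtain ⟨k, hk, hkv, hkc⟩ := hK _ h12
    have hm : a⁻¹ * k ∈ D.X := mul_mem (inv_mem ha) hk
    have e12 := conj_m hb hb2 hm (by rw [D.vec_mul (inv_mem ha) hk, D.vec_inv ha, hkv, xr_cancel])
    rw [(hca.inv_right.mul_right hkc).eq, mul_inv_cancel_right] at e12
    exact D.z_ne (mul_left_cancel (e12.symm.trans (mul_one _).symm))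
  have hrad : ∀ {a}, a ∈ D.X → Commute (g * D.z * g⁻¹) a →
      ∃ m ∈ stabOne.filter (fun l => decide (InR l)), D.Acts (g⁻¹ * a * g) m := by
    intro a ha hca
    obtain ⟨hjbc, hjm⟩ := hjb ha
    obtain ⟨l, hle, hl⟩ := D.exists_word (hjz hca)
    have hlC : ∀ v, act6 l (act6 wordC v) = act6 wordC (act6 l v) := by
      intro v
      rw [← act6_append, ← act6_append]
      exact ((hl.mul hb).congr fun _ => rfl).eq_of (hjbc.eq ▸ hb.mul hl) v
    have h1 : act6 l 1 = 1 := by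
      obtain ⟨p, hp⟩ := comm_C.2
      have hl1 : act6 l 1 = xr (act6 wordC (act6 l p)) (act6 l p) := by
        rw [← hlC, ← act6_xr hle, hp]
      have hq1 : q6 (act6 l 1) = false := by
        show qf QT (ap QT l 1) = false
        rw [← perm_apply frameT, (perm_mem frameT hle.1).2]
        exact small_facts.1
      have hn : act6 l 1 ≠ 0 := by
        intro e0
        have h10 : (1 : W) = act6 l.reverse 0 := by rw [← e0, act6_reverse']
        have h00 : act6 l.reverse 0 = 0 := by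
          have := act6_xr (evenWord_reverse hle) 0 0
          rwa [xr_self, xr_self] at this
        rw [h00] at h10
        exact absurd h10 (by decide)
      rw [hl1] at hn hq1 ⊢
      exact comm_C.1 _ hn hq1
    obtain ⟨m, hm, hmv⟩ := D.word_one hl.1 hl.2 h1
    have hmA : D.Acts (g⁻¹ * a * g) m := ⟨hl.1, hmv⟩
    have hmC : ∀ v, act6 m (act6 wordC v) = act6 wordC (act6 m v) := fun v => by
      rw [hmA.eq_of hl, hlC, hmA.eq_of hl]
    refine ⟨m, List.mem_filter.2 ⟨hm, decide_eq_true ?_⟩, hmA⟩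
    refine cent_C' hm (fun i _ => hmC _) he hf fun k hk => ?_
    obtain ⟨c, hc, rfl, hcb⟩ := hK k hk
    set j := g⁻¹ * a * g with hjdef
    have hjc := D.conj_mem hmA.1 hc
    have hjcb : Commute b (j * c * j⁻¹) :=
      (hjbc.symm.mul_right hcb).mul_right hjbc.symm.inv_right
    rw [← hmA.2 c hc]
    refine ⟨hK' hjc hjcb, ?_⟩
    have hin : c * (j * c⁻¹ * j⁻¹) ∈ D.X := mul_mem hc (D.conj_mem hmA.1 (inv_mem hc))
    have hin' : c * (j * c⁻¹ * j⁻¹) ∈ D.core b := by
      have := mul_mem (D.isCore.normalized hcb.symm hjm) (inv_mem hjm)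
      simpa [mul_assoc] using this
    have hsq : c * (j * c⁻¹ * j⁻¹) * (c * (j * c⁻¹ * j⁻¹)) = 1 := by
      refine (D.good.sq_cases hin).resolve_right fun e => ?_
      have hb' : b * D.z = D.z * b := hb.1.eq
      have hgood : LargeExtra.Good (D.core b) b := by
        have := good_map D.good g⁻¹
        rw [inv_inv, hbg] at this
        convert this using 1
        ext u
        rw [← hbg, show g⁻¹ * D.z * g = g⁻¹ * D.z * g⁻¹⁻¹ by rw [inv_inv], core_conj_iff,
          Subgroup.mem_map]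
        constructor
        · exact fun h => ⟨_, h, by simp [MulAut.conj_apply, mul_assoc]⟩
        · rintro ⟨w, hw, rfl⟩; simpa [MulAut.conj_apply, mul_assoc] using hw
      rcases hgood.sq_cases hin' with r | r
      · exact D.z_ne (e.symm.trans r)
      · exact hbne (r.symm.trans e)
    have hv := (D.vec_sq hin).2 hsq
    rw [D.vec_mul hc (D.conj_mem hmA.1 (inv_mem hc)), show j * c⁻¹ * j⁻¹ = (j * c * j⁻¹)⁻¹ by group,
      D.vec_inv hjc, xr_comm] at hv
    exact hv
  obtain ⟨m₁, hm₁, hA₁⟩ := hrad ha₁ hc₁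
  obtain ⟨m₂, hm₂, hA₂⟩ := hrad ha₂ hc₂
  have hj : j₁ * j₂ * j₁⁻¹ * j₂⁻¹ = b := by
    have e := D.conj_eq ha₁ ha₂
    have hbb : b6 (D.vec a₁) (D.vec a₂) = true := by
      by_contra h
      exact hne (D.comm_of ha₁ ha₂ (by simpa using h))
    rw [if_pos hbb] at e
    rw [hj₁, hj₂, ← hbg,
      show g⁻¹ * a₁ * g * (g⁻¹ * a₂ * g) * (g⁻¹ * a₁ * g)⁻¹ * (g⁻¹ * a₂ * g)⁻¹ =
        g⁻¹ * (a₁ * a₂ * a₁⁻¹ * a₂⁻¹) * g by group, e,
      show a₂ * D.z * a₂⁻¹ = D.z by rw [(D.X_comm ha₂).eq]; group]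
  have hcomm : ∀ v, act6 m₁ (act6 m₂ v) = act6 m₂ (act6 m₁ v) := fun v => by
    rw [← act6_append, ← act6_append]
    exact act6_ext (evenWord_append (stab_spec (List.mem_filter.1 hm₁).1) (stab_spec (List.mem_filter.1 hm₂).1))
      (evenWord_append (stab_spec (List.mem_filter.1 hm₂).1) (stab_spec (List.mem_filter.1 hm₁).1))
      (fun i hi => by rw [act6_append, act6_append]; exact rad_comm m₁ hm₁ m₂ hm₂ i hi) v
  have htriv := hj ▸ (((hA₁.mul hA₂).mul hA₁.inv).mul hA₂.inv)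
  have := hb.eq_of htriv 2
  rw [act6_append, act6_append, act6_append, hcomm, act6_reverse, act6_reverse] at this
  revert this; decide +kernel

end SData

/-- Exactly two classes of involutions. -/
theorem two_classes {G : Type*} [Group G] [Finite G] (D : SData G) :
    ∃ a b : G, orderOf a = 2 ∧ orderOf b = 2 ∧ ¬ IsConj a b ∧
      ∀ x : G, orderOf x = 2 → IsConj x a ∨ IsConj x b := by
  obtain ⟨s, hs⟩ := D.exists_base
  obtain ⟨b, hb, hb2, hbs⟩ := SData.exists_b hs
  have hb1 : b ≠ 1 := fun e => by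
    have := hb.eq_of (e.symm ▸ SData.acts_mem (one_mem _)) 2
    revert this; decide +kernel
  refine ⟨D.z, b, orderOf_eq_prime (by rw [sq]; exact D.zz) D.z_ne,
    orderOf_eq_prime (by rw [sq]; exact hb2) hb1, fun h => SData.not_conj hs hb hb2 hbs h.symm,
    fun x hx => ?_⟩
  have hx2 : x * x = 1 := by rw [← sq, ← hx, pow_orderOf_eq_one]
  obtain ⟨g, hg⟩ := D.sylow hx2
  have hxx : IsConj x (g * x * g⁻¹) := isConj_iff.2 ⟨g, rfl⟩
  have hsq : g * x * g⁻¹ * (g * x * g⁻¹) = 1 := by rw [conj_mul, hx2, mul_one, mul_inv_cancel]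
  rcases SData.classify hs hg hsq with h | ⟨h, hh, t, ht, ht2, hc⟩
  · refine Or.inl (hxx.trans (SData.isConj_z_of_mem hs h hsq fun e => ?_))
    rw [conj_eq_one_iff] at e
    rw [e, orderOf_one] at hx
    omega
  · rcases List.mem_pair.1 hh with rfl | rfl
    · exact Or.inl ((hxx.trans hc.isConj).trans (SData.isConj_z_of_A hs ht ht2))
    · refine Or.inr ((hxx.trans hc.isConj).trans ?_)
      rcases SData.cconj_over (by simp) hb hb2 ht ht2 with r | r
      · exact r.isConj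
      · exact (r.trans (SData.cconj_mul_z hb hb2)).isConj

end Cfsg.Agent.Lib.SuzType57
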