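import Mathlib

/-!
# The orthogonal groups in dimension six over two elements on bit masks

Vectors are bit masks; `qf` is the parity table of a quadratic form.  Transversals of reflections
give generation and the orders.
-/

set_option autoImplicit false

namespace Cfsg.Agent.Lib.SuzType57

/-- Vectors. -/
abbrev W := Fin 64

/-- Addition of vectors. -/
def xr (a b : W) : W := ⟨a.1 ^^^ b.1, Nat.xor_lt_two_pow (n := 6) a.2 b.2⟩

theorem xr_comm : ∀ a b : W, xr a b = xr b a := by decide +kernel

theorem xr_self : ∀ a : W, xr a a = 0 := by decide +kernel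

theorem xr_zero : ∀ a : W, xr a 0 = a := by decide +kernel

theorem zero_xr : ∀ a : W, xr 0 a = a := by decide +kernel

theorem xr_assoc (a b c : W) : xr (xr a b) c = xr a (xr b c) := Fin.ext (Nat.xor_assoc _ _ _)

theorem xr_cancel (a b : W) : xr a (xr a b) = b := by rw [← xr_assoc, xr_self, zero_xr]

theorem xr_cancel_right (a b : W) : xr (xr a b) b = a := by rw [xr_assoc, xr_self, xr_zero]

theorem eq_of_xr_eq_zero {a b : W} (h : xr a b = 0) : a = b := by
  rw [← xr_cancel_right a b, h, zero_xr]

/-- The value of the form with table `t`. -/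
def qf (t : ℕ) (v : W) : Bool := t.testBit v.1

/-- The polar form. -/
def bf (t : ℕ) (a b : W) : Bool := xor (qf t (xr a b)) (xor (qf t a) (qf t b))

/-- The reflection. -/
def refl (t : ℕ) (a v : W) : W := if bf t a v then xr v a else v

/-- A product of reflections, applied. -/
def ap (t : ℕ) : List W → W → W
  | [], v => v
  | a :: l, v => refl t a (ap t l v)

theorem ap_append (t : ℕ) (l m : List W) (v : W) : ap t (l ++ m) v = ap t l (ap t m v) := by
  induction l with
  | nil => rfl
  | cons a l ih => exact congrArg (refl t a) ih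

/-- The basis. -/
def bv : ℕ → W
  | 0 => 1
  | 1 => 2
  | 2 => 4
  | 3 => 8
  | 4 => 16
  | 5 => 32
  | _ => 0

/-- Additive maps agreeing on the basis are equal. -/
theorem ext_basis {f g : W → W} (hf : ∀ a b, f (xr a b) = xr (f a) (f b))
    (hg : ∀ a b, g (xr a b) = xr (g a) (g b)) (h : ∀ i < 6, f (bv i) = g (bv i)) (v : W) :
    f v = g v := by
  have hlist : ∀ l : List ℕ, (∀ i ∈ l, i < 6) →
      f (l.foldr (fun i x => xr (bv i) x) 0) = g (l.foldr (fun i x => xr (bv i) x) 0) := by
    intro l
    induction l with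
    | nil =>
      intro _
      have hf0 := hf 0 0
      have hg0 := hg 0 0
      rw [xr_self 0, xr_self] at hf0 hg0
      exact hf0.trans hg0.symm
    | cons i l ih =>
      intro hl
      show f (xr _ _) = g (xr _ _)
      rw [hf, hg, h i (hl i (List.mem_cons_self ..)),
        ih fun j hj => hl j (List.mem_cons_of_mem _ hj)]
  have hv : ∀ v : W, ((List.range 6).filter fun i => v.1.testBit i).foldr
      (fun i x => xr (bv i) x) 0 = v := by decide +kernel
  have := hlist ((List.range 6).filter fun i => v.1.testBit i)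
    fun i hi => List.mem_range.1 (List.mem_filter.1 hi).1
  rwa [hv v] at this

/-- Isometries of the form with table `t`. -/
def Iso (t : ℕ) : Subgroup (Equiv.Perm W) where
  carrier := {h | (∀ a b, h (xr a b) = xr (h a) (h b)) ∧ ∀ a, qf t (h a) = qf t a}
  one_mem' := ⟨fun _ _ => rfl, fun _ => rfl⟩
  mul_mem' := fun {f g} hf hg =>
    ⟨fun a b => by simp only [Equiv.Perm.mul_apply]; rw [hg.1, hf.1],
      fun a => by simp only [Equiv.Perm.mul_apply]; rw [hf.2, hg.2]⟩
  inv_mem' := fun {f} hf =>
    ⟨fun a b => f.injective (by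
      rw [hf.1, Equiv.Perm.coe_inv, Equiv.apply_symm_apply, Equiv.apply_symm_apply,
        Equiv.apply_symm_apply]),
      fun a => by
        conv_rhs => rw [← f.apply_symm_apply a]
        rw [hf.2]; rfl⟩

theorem Iso.map_xr {t : ℕ} {h : Equiv.Perm W} (hh : h ∈ Iso t) (a b : W) :
    h (xr a b) = xr (h a) (h b) := hh.1 a b

theorem Iso.map_qf {t : ℕ} {h : Equiv.Perm W} (hh : h ∈ Iso t) (a : W) : qf t (h a) = qf t a :=
  hh.2 a

theorem Iso.map_bf {t : ℕ} {h : Equiv.Perm W} (hh : h ∈ Iso t) (a b : W) :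
    bf t (h a) (h b) = bf t a b := by
  rw [bf, bf, ← hh.1, hh.2, hh.2, hh.2]

theorem Iso.map_zero {t : ℕ} {h : Equiv.Perm W} (hh : h ∈ Iso t) : h 0 = 0 := by
  have := hh.1 0 0
  rw [xr_self] at this
  rw [this, xr_self]

theorem Iso.ext {t : ℕ} {g h : Equiv.Perm W} (hg : g ∈ Iso t) (hh : h ∈ Iso t)
    (e : ∀ i < 6, g (bv i) = h (bv i)) : g = h :=
  Equiv.ext (ext_basis hg.1 hh.1 e)

/-- The polar form read on the bits of the second argument. -/
def bl (t : ℕ) (a n : W) : Bool :=
  xor (n.1.testBit 0 && bf t a 1) (xor (n.1.testBit 1 && bf t a 2) (xor (n.1.testBit 2 && bf t a 4)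
    (xor (n.1.testBit 3 && bf t a 8) (xor (n.1.testBit 4 && bf t a 16) (n.1.testBit 5 && bf t a 32)))))

/-- Facts needed of a table. -/
structure Frame (t : ℕ) : Prop where
  blin : ∀ a n : W, bf t a n = bl t a n
  bself : ∀ a : W, bf t a a = false

theorem Frame.badd {t : ℕ} (F : Frame t) (a m n : W) :
    bf t a (xr m n) = xor (bf t a m) (bf t a n) := by
  rw [F.blin, F.blin a m, F.blin a n]
  have x4 : ∀ p q r s : Bool, xor (xor p q) (xor r s) = xor (xor p r) (xor q s) := by decide
  simp only [bl, xr, Nat.testBit_xor, Bool.and_xor_distrib_right]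
  simp only [x4]

theorem Frame.bsymm {t : ℕ} (_ : Frame t) (a b : W) : bf t a b = bf t b a := by
  rw [bf, bf, xr_comm a b, Bool.xor_comm (qf t a) (qf t b)]

theorem Frame.refl_refl {t : ℕ} (F : Frame t) (a v : W) : refl t a (refl t a v) = v := by
  unfold refl
  cases h : bf t a v
  · simp [h]
  · simp [F.badd, h, F.bself, xr_cancel_right]

theorem Frame.refl_xr {t : ℕ} (F : Frame t) (a m n : W) :
    refl t a (xr m n) = xr (refl t a m) (refl t a n) := by
  unfold refl
  rw [F.badd]
  cases bf t a m <;> cases bf t a n <;>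
    simp only [Bool.false_xor, Bool.true_xor, Bool.not_true, Bool.not_false, if_true,
      Bool.false_eq_true, if_false]
  · rw [xr_assoc]
  · rw [xr_assoc, xr_assoc, xr_comm n a]
  · rw [xr_assoc m a, xr_comm n a, xr_cancel]

theorem Frame.refl_qf {t : ℕ} (F : Frame t) {a : W} (ha : qf t a = true) (v : W) :
    qf t (refl t a v) = qf t v := by
  unfold refl
  cases h : bf t a v
  · simp
  · rw [F.bsymm] at h
    unfold bf at h
    rw [ha] at h
    simp only [if_true]
    revert h
    cases qf t (xr v a) <;> cases qf t v <;> simp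

theorem Frame.refl_fix {t : ℕ} (_ : Frame t) {a v : W} (h : bf t a v = false) :
    refl t a v = v := by simp [refl, h]

/-- A product of reflections in non-singular vectors. -/
def Good' (t : ℕ) (l : List W) : Prop := ∀ a ∈ l, qf t a = true

/-- The reflection as a permutation. -/
def reflP {t : ℕ} (F : Frame t) (a : W) : Equiv.Perm W :=
  Function.Involutive.toPerm (refl t a) (F.refl_refl a)

/-- A word as a permutation. -/
def perm {t : ℕ} (F : Frame t) (l : List W) : Equiv.Perm W := (l.map (reflP F)).prod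

theorem perm_apply {t : ℕ} (F : Frame t) (l : List W) (v : W) : perm F l v = ap t l v := by
  induction l with
  | nil => rfl
  | cons a l ih => show reflP F a (perm F l v) = _; rw [ih]; rfl

theorem perm_append {t : ℕ} (F : Frame t) (l m : List W) : perm F (l ++ m) = perm F l * perm F m := by
  simp [perm]

theorem perm_mem {t : ℕ} (F : Frame t) {l : List W} (hl : Good' t l) : perm F l ∈ Iso t := by
  refine list_prod_mem fun x hx => ?_
  obtain ⟨a, ha, rfl⟩ := List.mem_map.1 hx
  exact ⟨F.refl_xr a, F.refl_qf (hl a ha)⟩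

theorem perm_reverse {t : ℕ} (F : Frame t) (l : List W) : perm F l.reverse = (perm F l)⁻¹ := by
  induction l with
  | nil => simp [perm]
  | cons a l ih =>
    rw [List.reverse_cons, perm_append, ih]
    have h : (reflP F a)⁻¹ = reflP F a := Equiv.ext fun v => rfl
    simp [perm, h]

theorem perm_eq_of {t : ℕ} (F : Frame t) {l m : List W} (hl : Good' t l) (hm : Good' t m)
    (h : ∀ i < 6, ap t l (bv i) = ap t m (bv i)) : perm F l = perm F m :=
  Iso.ext (perm_mem F hl) (perm_mem F hm) fun i hi => by rw [perm_apply, perm_apply, h i hi]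

/-- The isometries fixing the first `i` basis vectors. -/
def Fix (t i : ℕ) : Subgroup (Equiv.Perm W) where
  carrier := {h | h ∈ Iso t ∧ ∀ j < i, h (bv j) = bv j}
  one_mem' := ⟨one_mem _, fun _ _ => rfl⟩
  mul_mem' := fun {f g} hf hg => ⟨mul_mem hf.1 hg.1, fun j hj => by
    rw [Equiv.Perm.mul_apply, hg.2 j hj, hf.2 j hj]⟩
  inv_mem' := fun {f} hf => ⟨inv_mem hf.1, fun j hj => by
    rw [Equiv.Perm.inv_eq_iff_eq, hf.2 j hj]⟩

/-- Possible images of the `i`-th basis vector. -/
def cand (t i : ℕ) : List W :=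
  (List.finRange 64).filter fun v =>
    (v != 0) && (qf t v == qf t (bv i)) &&
      (List.range i).all fun j => (bf t (bv j) v == bf t (bv j) (bv i)) && (v != bv j)

/-- The certificate of a transversal. -/
structure Trans (t : ℕ) (T : ℕ → List (List W)) : Prop where
  good : ∀ i < 6, ∀ w ∈ T i, ∀ a ∈ w, qf t a = true ∧ ∀ j < i, bf t a (bv j) = false
  cover : ∀ i < 6, ∀ v ∈ cand t i, ∃ w ∈ T i, ap t w v = bv i
  len : ∀ i < 6, (cand t i).length = (T i).length
  base : ∀ i < 6, bv i ≠ 0 ∧ ∀ j < i, bv i ≠ bv j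

theorem image_mem_cand {t : ℕ} (hb : ∀ i < 6, bv i ≠ 0 ∧ ∀ j < i, bv i ≠ bv j) {i : ℕ} (hi : i < 6)
    {h : Equiv.Perm W} (hh : h ∈ Fix t i) : h (bv i) ∈ cand t i := by
  refine List.mem_filter.2 ⟨List.mem_finRange _, ?_⟩
  simp only [Bool.and_eq_true, List.all_eq_true, List.mem_range, bne_iff_ne, beq_iff_eq]
  refine ⟨⟨fun e => (hb i hi).1 (h.injective (e.trans (Iso.map_zero hh.1).symm)),
    Iso.map_qf hh.1 _⟩, fun j hj => ⟨?_, fun e => (hb i hi).2 j hj
      (h.injective (e.trans (hh.2 j hj).symm))⟩⟩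
  rw [← Iso.map_bf hh.1 (bv j) (bv i), hh.2 j hj]

theorem trans_mem {t : ℕ} (F : Frame t) {T : ℕ → List (List W)} (hT : Trans t T) {i : ℕ}
    (hi : i < 6) {w : List W} (hw : w ∈ T i) : perm F w ∈ Fix t i := by
  refine ⟨perm_mem F fun a ha => (hT.good i hi w hw a ha).1, fun j hj => ?_⟩
  rw [perm_apply]
  have : ∀ l : List W, (∀ a ∈ l, bf t a (bv j) = false) → ap t l (bv j) = bv j := by
    intro l
    induction l with
    | nil => intro _; rfl
    | cons a l ih =>
      intro hl
      show refl t a _ = _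
      rw [ih fun b hb => hl b (List.mem_cons_of_mem _ hb),
        F.refl_fix (hl a (List.mem_cons_self ..))]
  exact this w fun a ha => (hT.good i hi w hw a ha).2 j hj

theorem fix_six {t : ℕ} {h : Equiv.Perm W} (hh : h ∈ Fix t 6) : h = 1 :=
  Iso.ext hh.1 (one_mem _) fun i hi => hh.2 i hi

theorem card_stabilizer_fix (t i : ℕ) :
    Nat.card (MulAction.stabilizer (Fix t i) (bv i)) = Nat.card (Fix t (i + 1)) := by
  refine Nat.card_congr
    { toFun := fun g => ⟨g.1.1, g.1.2.1, fun j hj => ?_⟩
      invFun := fun g => ⟨⟨g.1, g.2.1, fun j hj => g.2.2 j (by omega)⟩, g.2.2 i (by omega)⟩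
      left_inv := fun g => rfl
      right_inv := fun g => rfl }
  rcases Nat.lt_succ_iff_lt_or_eq.1 hj with hj | rfl
  · exact g.1.2.2 j hj
  · exact g.2

theorem card_fix_le {t : ℕ} (hb : ∀ i < 6, bv i ≠ 0 ∧ ∀ j < i, bv i ≠ bv j) {i : ℕ} (hi : i < 6) :
    Nat.card (Fix t i) ≤ (cand t i).length * Nat.card (Fix t (i + 1)) := by
  classical
  rw [← Nat.card_congr (MulAction.orbitProdStabilizerEquivGroup (Fix t i) (bv i)), Nat.card_prod,
    card_stabilizer_fix]
  refine Nat.mul_le_mul_right _ ?_
  have hsub : MulAction.orbit (Fix t i) (bv i) ⊆ ((cand t i).toFinset : Set W) := by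
    rintro _ ⟨⟨h, hh⟩, rfl⟩
    exact List.mem_toFinset.2 (image_mem_cand hb hi hh)
  rw [Nat.card_coe_set_eq]
  exact ((Set.ncard_le_ncard hsub (Finset.finite_toSet _)).trans (Set.ncard_coe_finset _).le).trans
    (List.toFinset_card_le _)

/-- All words from the transversals, from level `i` on. -/
def enum (T : ℕ → List (List W)) : ℕ → ℕ → List (List W)
  | 0, _ => [[]]
  | n + 1, i => (T i).flatMap fun w => (enum T n (i + 1)).map (w.reverse ++ ·)

theorem exists_enum {t : ℕ} (F : Frame t) {T : ℕ → List (List W)} (hT : Trans t T) :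
    ∀ (n i : ℕ), i + n = 6 → ∀ {h : Equiv.Perm W}, h ∈ Fix t i →
      ∃ l ∈ enum T n i, perm F l = h := by
  intro n
  induction n with
  | zero =>
    intro i hi h hh
    rw [add_zero] at hi
    subst hi
    exact ⟨[], List.mem_singleton_self _, (fix_six hh).symm⟩
  | succ n ih =>
    intro i hi h hh
    obtain ⟨w, hw, hwv⟩ := hT.cover i (by omega) _ (image_mem_cand hT.base (by omega) hh)
    have hk : perm F w * h ∈ Fix t (i + 1) := by
      have hm := mul_mem (trans_mem F hT (by omega) hw) hh
      refine ⟨hm.1, fun j hj => ?_⟩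
      rcases Nat.lt_succ_iff_lt_or_eq.1 hj with hj | rfl
      · exact hm.2 j hj
      · rw [Equiv.Perm.mul_apply, perm_apply, hwv]
    obtain ⟨l, hl, hle⟩ := ih (i + 1) (by omega) hk
    refine ⟨w.reverse ++ l, ?_, ?_⟩
    · simp only [enum, List.mem_flatMap, List.mem_map]
      exact ⟨w, hw, l, hl, rfl⟩
    · rw [perm_append, perm_reverse, hle, inv_mul_cancel_left]

theorem good_enum {t : ℕ} {T : ℕ → List (List W)} (hT : Trans t T) :
    ∀ (n i : ℕ), i + n = 6 → ∀ l ∈ enum T n i, Good' t l := by
  intro n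
  induction n with
  | zero =>
    intro i _ l hl
    simp only [enum, List.mem_singleton] at hl
    subst hl; intro a ha; simp at ha
  | succ n ih =>
    intro i hi l hl
    simp only [enum, List.mem_flatMap, List.mem_map] at hl
    obtain ⟨w, hw, m, hm, rfl⟩ := hl
    intro a ha
    rcases List.mem_append.1 ha with ha | ha
    · exact (hT.good i (by omega) w hw a (List.mem_reverse.1 ha)).1
    · exact ih (i + 1) (by omega) m hm a ha

theorem orbit_fix {t : ℕ} (F : Frame t) {T : ℕ → List (List W)} (hT : Trans t T) {i : ℕ}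
    (hi : i < 6) : MulAction.orbit (Fix t i) (bv i) = {v | v ∈ cand t i} := by
  ext v
  constructor
  · rintro ⟨⟨h, hh⟩, rfl⟩
    exact image_mem_cand hT.base hi hh
  · intro hv
    obtain ⟨w, hw, hwv⟩ := hT.cover i hi v hv
    refine ⟨⟨_, inv_mem (trans_mem F hT hi hw)⟩, ?_⟩
    show (perm F w)⁻¹ (bv i) = v
    rw [Equiv.Perm.inv_eq_iff_eq, perm_apply, hwv]

theorem card_fix_succ {t : ℕ} (F : Frame t) {T : ℕ → List (List W)} (hT : Trans t T) {i : ℕ}
    (hi : i < 6) : Nat.card (Fix t i) = (cand t i).length * Nat.card (Fix t (i + 1)) := by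
  classical
  have h1 := Nat.card_congr (MulAction.orbitProdStabilizerEquivGroup (Fix t i) (bv i))
  rw [Nat.card_prod, orbit_fix F hT hi] at h1
  have hc : Nat.card {v | v ∈ cand t i} = (cand t i).length := by
    have hnd : (cand t i).Nodup := (List.nodup_finRange 64).filter _
    rw [← List.toFinset_card_of_nodup hnd, ← Set.ncard_coe_finset]
    rw [Nat.card_coe_set_eq]
    exact congrArg Set.ncard (by ext; simp)
  rw [← h1, hc, card_stabilizer_fix]

theorem card_iso {t : ℕ} (F : Frame t) {T : ℕ → List (List W)} (hT : Trans t T) :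
    Nat.card (Iso t) = ((List.range 6).map fun i => (cand t i).length).prod := by
  have h0 : Nat.card (Fix t 0) = Nat.card (Iso t) :=
    Nat.card_congr (Equiv.subtypeEquivRight fun h => ⟨fun hh => hh.1, fun hh => ⟨hh, fun j hj => by omega⟩⟩)
  have h6 : Nat.card (Fix t 6) = 1 := by
    have : Subsingleton (Fix t 6) := ⟨fun a b => Subtype.ext ((fix_six a.2).trans (fix_six b.2).symm)⟩
    exact Nat.card_unique
  rw [← h0, card_fix_succ F hT (i := 0) (by omega), card_fix_succ F hT (i := 1) (by omega),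
    card_fix_succ F hT (i := 2) (by omega), card_fix_succ F hT (i := 3) (by omega),
    card_fix_succ F hT (i := 4) (by omega), card_fix_succ F hT (i := 5) (by omega), h6]
  simp [List.range_succ]

end Cfsg.Agent.Lib.SuzType57
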