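import Cfsg.Agent.Lib.SuzType57.Model

/-!
# The two forms of dimension six: tables and certificates
-/

set_option autoImplicit false

namespace Cfsg.Agent.Lib.SuzType57

/-- The elliptic form. -/
def QT : ℕ := 9761419664792451208

/-- The hyperbolic form. -/
def QP : ℕ := 9761403244881934472

def trans : ℕ → List (List W)
  | 0 => [[], [3], [11, 14], [3, 7], [7], [7, 14], [3, 11], [11], [14], [18], [22], [26], [7, 26], [3, 31], [31], [34], [38], [42], [7, 42], [3, 47], [47], [50], [54], [58], [7, 58], [3, 63], [63]]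
  | 1 => [[], [17, 21], [17, 25], [13], [17], [21], [25], [13, 17], [33], [37], [41], [13, 33], [49], [53], [57], [13, 49]]
  | 2 => [[], [12], [24], [40], [56]]
  | 3 => [[], [20], [36], [52]]
  | 4 => [[], [48], [32]]
  | 5 => [[], [16]]
  | _ => []

def invCert : List (List W) := [[24, 3, 47, 41], [18, 3, 63, 40], [18, 3, 56, 47], [63, 34], [47, 18], [63, 18], [20, 3, 47, 37], [7, 3, 57, 22], [7, 3, 41, 22], [18, 3, 63, 36], [7, 3, 57, 26], [7, 3, 58, 25], [18, 3, 52, 47], [7, 3, 41, 26], [7, 3, 42, 25], [11, 3, 22, 13], [], [11, 3, 54, 13], [11, 3, 38, 13], [7, 3, 26, 13], [16, 12], [7, 3, 58, 13], [7, 3, 42, 13], [58, 38], [42, 22], [58, 22], [], [56, 36], [7, 3, 17, 11], [31, 3], [7, 3, 26, 12], [7, 3, 58, 33], [20, 12], [11, 3, 52, 18], [11, 3, 36, 18], [11, 3, 54, 33], [7, 3, 56, 18], [7, 3, 40, 18], [24, 12], [26, 7], [24, 12], [20, 3, 63, 33], [20, 3, 49, 47], [56, 20], [7, 3, 33, 11], [47, 3], [7, 3, 42, 12], [7, 3, 58, 17], [36, 12], [11, 3, 34, 22], [11,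 3, 54, 20], [11, 3, 54, 17], [7, 3, 34, 26], [7, 3, 58, 24], [40, 12], [42, 7], [40, 12], [18, 3, 63, 25], [18, 3, 63, 21], [40, 20], [7, 3, 49, 11], [63, 3], [7, 3, 58, 12], [7, 3, 42, 17], [52, 12], [11, 3, 50, 22], [11, 3, 38, 20], [11, 3, 38, 17], [7, 3, 50, 26], [7, 3, 42, 24], [56, 12], [58, 7], [56, 12], [18, 3, 47, 25], [18, 3, 47, 21]]

def rsCert : List (List W) := [[], [12, 16], [], [40, 52], [24, 16], [20, 16], [12, 20], [24, 52], [24, 48], [20, 48], [12, 36], [24, 36], [24, 32], [20, 32], [12, 52]]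
def wordA : List W := [17, 21, 20, 16]
def wordC : List W := [13, 12]
def wordF : List W := [17, 25, 24, 16]

def transP : List (List W) :=
  [[], [3], [11, 14], [3, 7], [7], [7, 14], [3, 11], [11], [14], [35, 50], [3, 19], [19], [11, 30], [3, 23], [23], [7, 30], [3, 27], [27], [30], [19, 50], [3, 35], [35], [11, 46], [3, 39], [39], [7, 46], [3, 43], [43], [46], [50], [54], [58], [7, 58], [3, 63], [63]]

theorem frameT : Frame QT := ⟨by decide +kernel, by decide +kernel⟩

theorem frameP : Frame QP := ⟨by decide +kernel, by decide +kernel⟩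

theorem transT : Trans QT trans :=
  ⟨by decide +kernel, by decide +kernel, by decide +kernel, by decide +kernel⟩

theorem transP_spec : (∀ w ∈ transP, ∀ a ∈ w, qf QP a = true) ∧
    (∀ v ∈ cand QP 0, ∃ w ∈ transP, ap QP w v = bv 0) ∧ (cand QP 0).length = 35 := by
  decide +kernel

theorem base : ∀ i < 6, bv i ≠ 0 ∧ ∀ j < i, bv i ≠ bv j := by decide +kernel

theorem card_isoT : Nat.card (Iso QT) = 51840 := by
  rw [card_iso frameT transT]; decide +kernel

end Cfsg.Agent.Lib.SuzType57
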